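import Cfsg.Agent.Characters.GaloisBasic
import Cfsg.Agent.Characters.Core
import Cfsg.Agent.H86.TI.Lift

/-!
# MK, the triple covers of `U₄(3)`: the restriction of a character to the centraliser of an involution (helper86)

`Loc a b s t i j` : `⟨i, j⟩` and its conjugate under `s` are commuting quaternion groups, `a` and `b` have the order three.
-/

set_option autoImplicit false

namespace Cfsg.Agent.MK.U43.GI

open Cfsg Subgroup Cfsg.Agent.Characters Cfsg.Agent.H86.TI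

variable {X : Type} [Group X]

section Op

variable {V : Type} [AddCommGroup V] [Module ℂ V] [FiniteDimensional ℂ V] (ρ : Representation ℂ X V)

local notation "τ" => LinearMap.trace ℂ V

/-- a multiple of an idempotent -/
def Qi (e : Module.End ℂ V) (n : ℕ) : Prop := e * e = (n : ℂ) • e

theorem Qi.dvd {e : Module.End ℂ V} {n : ℕ} (h : Qi e n) (hn : n ≠ 0) {v : ℤ} (hv : τ e = v) : (n : ℤ) ∣ v := by
  have h0 : (n : ℂ) ≠ 0 := Nat.cast_ne_zero.2 hn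
  have h1 : IsIdempotentElem ((n : ℂ)⁻¹ • e) := by
    rw [IsIdempotentElem, smul_mul_assoc, mul_smul_comm, h, smul_smul _ (n : ℂ), inv_mul_cancel₀ h0, one_smul]
  have h2 := (LinearMap.IsIdempotentElem.isProj_range _ h1).trace
  rw [map_smul, hv, smul_eq_mul, inv_mul_eq_iff_eq_mul₀ h0] at h2
  exact ⟨(Module.finrank ℂ (LinearMap.range ((n : ℂ)⁻¹ • e)) : ℕ), by exact_mod_cast h2⟩

omit [FiniteDimensional ℂ V] in
theorem Qi.mul {e f : Module.End ℂ V} {n m : ℕ} (h : Qi e n) (k : Qi f m) (c : Commute e f) : Qi (e * f) (n * m) := by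
  rw [Qi, c.symm.mul_mul_mul_comm, h, k, smul_mul_smul_comm, Nat.cast_mul]

/-- the sum over a cyclic group -/
noncomputable def cy (x : X) (n : ℕ) : Module.End ℂ V := ∑ k ∈ Finset.range n, ρ (x ^ k)

omit [FiniteDimensional ℂ V] in
theorem pow_cy {x : X} {n : ℕ} (h : x ^ n = 1) (k : ℕ) : ρ (x ^ k) * cy ρ x n = cy ρ x n := by
  induction k with
  | zero => rw [pow_zero, map_one, one_mul]
  | succ k ih =>
    rw [pow_succ, map_mul, mul_assoc, show ρ x * cy ρ x n = cy ρ x n from ?_, ih]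
    have h1 := (Finset.sum_range_succ' (fun k => ρ (x ^ k)) n).symm.trans (Finset.sum_range_succ _ n)
    rw [h, pow_zero, add_left_inj] at h1
    rw [cy, Finset.mul_sum, ← h1]
    exact Finset.sum_congr rfl fun k _ => by rw [← map_mul, pow_succ']

omit [FiniteDimensional ℂ V] in
theorem Qi_cy {x : X} {n : ℕ} (h : x ^ n = 1) : Qi (cy ρ x n) n := by
  rw [Qi]
  nth_rw 1 [cy]
  rw [Finset.sum_mul, Finset.sum_congr rfl fun k _ => pow_cy ρ h k, Finset.sum_const, Finset.card_range, Nat.cast_smul_eq_nsmul]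

omit [FiniteDimensional ℂ V] in
theorem cy_comm {T : Module.End ℂ V} {x : X} (h : Commute T (ρ x)) (n : ℕ) : Commute T (cy ρ x n) :=
  Commute.sum_right _ _ _ fun k _ => by rw [map_pow]; exact h.pow_right k

omit [FiniteDimensional ℂ V] in
theorem tr_conj {T : Module.End ℂ V} {c y w : X} (h : Commute T (ρ c)) (e : c * y * c⁻¹ = w) :
    τ (T * ρ w) = τ (T * ρ y) := by
  rw [← e, map_mul ρ, map_mul ρ, ← mul_assoc, ← mul_assoc, h.eq, LinearMap.trace_mul_comm, ← mul_assoc, ← mul_assoc,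
    ← map_mul ρ, inv_mul_cancel, map_one ρ, one_mul]

/-- quaternion groups with an automorphism of order three -/
structure Q8 (b i j : X) : Prop where
  i4 : i ^ 4 = 1
  bi : b * i * b⁻¹ = j
  bj : b * j * b⁻¹ = i * j
  ji : j * i * j⁻¹ = i⁻¹
  jj : j ^ 2 = i ^ 2

/-- the sum over a quaternion group -/
noncomputable def eQ (i j : X) : Module.End ℂ V := cy ρ i 4 * (1 + ρ j)

theorem Q8.i3 {b i j : X} (h : Q8 b i j) : j * i * j⁻¹ = i ^ 3 := by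
  rw [h.ji, inv_eq_iff_mul_eq_one, ← pow_succ', h.i4]

omit [FiniteDimensional ℂ V] in
theorem Q8.qi {b i j : X} (h : Q8 b i j) : Qi (eQ ρ i j) 8 := by
  have h1 : j * i = i ^ 3 * j := by rw [← h.i3, inv_mul_cancel_right]
  have h2 : j * i ^ 2 = i ^ 2 * j := by rw [← h.jj, ← pow_succ, ← pow_succ']
  have h3 : j * i ^ 3 = i * j := by
    rw [pow_succ, ← mul_assoc, h2, mul_assoc, h1, ← mul_assoc, ← pow_add, show 2 + 3 = 4 + 1 from rfl, pow_succ, h.i4,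
      one_mul]
  have c : ρ j * cy ρ i 4 = cy ρ i 4 * ρ j := by
    simp only [cy, Finset.sum_range_succ, Finset.sum_range_zero, zero_add, mul_add, add_mul, ← map_mul, pow_zero,
      pow_one, h1, h2, h3, mul_one, one_mul]
    abel
  have d : cy ρ i 4 * (ρ j * ρ j) = cy ρ i 4 := by
    rw [← map_mul, ← pow_two, h.jj, ← (cy_comm ρ (show Commute (ρ (i ^ 2)) (ρ i) from
      ((Commute.refl i).pow_left 2).map ρ) 4).eq, pow_cy ρ h.i4]
  have e : Commute (1 + ρ j) (cy ρ i 4) := (Commute.one_left _).add_left c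
  rw [Qi, eQ, e.mul_mul_mul_comm, Qi_cy ρ h.i4, smul_mul_assoc]
  simp only [mul_add, add_mul, mul_one, one_mul, d]
  module

omit [FiniteDimensional ℂ V] in
theorem eQ_comm {T : Module.End ℂ V} {i j : X} (h : Commute T (ρ i)) (k : Commute T (ρ j)) : Commute T (eQ ρ i j) :=
  (cy_comm ρ h 4).mul_right ((Commute.one_right _).add_right k)

omit [FiniteDimensional ℂ V] in
theorem Q8.trC {b i j : X} (h : Q8 b i j) {T : Module.End ℂ V} (cj : Commute T (ρ j)) :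
    τ (T * cy ρ i 4) = τ T + τ (T * ρ (i ^ 2)) + 2 * τ (T * ρ i) := by
  simp only [cy, Finset.sum_range_succ, Finset.sum_range_zero, zero_add, mul_add, map_add, pow_zero, pow_one, map_one,
    mul_one, tr_conj ρ cj h.i3]
  ring

omit [FiniteDimensional ℂ V] in
theorem Q8.trQ {b i j : X} (h : Q8 b i j) {T : Module.End ℂ V} (ci : Commute T (ρ i)) (cj : Commute T (ρ j))
    (cb : Commute T (ρ b)) : τ (T * eQ ρ i j) = τ T + τ (T * ρ (i ^ 2)) + 6 * τ (T * ρ i) := by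
  have h1 : i * j * i⁻¹ = i ^ 2 * j := by
    rw [← h.ji, ← h.jj]
    calc i * j * (j * i * j⁻¹) = i * (j ^ 2 * i) * j⁻¹ := by simp only [pow_two, mul_assoc]
      _ = i ^ 4 * j⁻¹ := by rw [h.jj, ← pow_succ, ← pow_succ']
      _ = j ^ 2 * j := by
        rw [h.i4, one_mul, inv_eq_iff_mul_eq_one, ← pow_succ, ← pow_succ', show 2 + 1 + 1 = 2 * 2
          from rfl, pow_mul, h.jj, ← pow_mul, h.i4]
  have h2 : i * (i * j) * i⁻¹ = i ^ 3 * j := by rw [mul_assoc, h1, ← mul_assoc, ← pow_succ']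
  have e1 := tr_conj ρ cb h.bi
  have e2 := (tr_conj ρ cb h.bj).trans e1
  rw [eQ, mul_add, mul_one, mul_add, map_add, h.trC ρ cj]
  simp only [cy, Finset.sum_range_succ, Finset.sum_range_zero, zero_add, mul_add, add_mul, map_add, pow_zero, pow_one,
    ← map_mul, one_mul, tr_conj ρ ci h1, tr_conj ρ ci h2, e1, e2]
  ring

/-- a central element of order three with its scalar -/
structure Tw (c : X) (ζ : ℂ) : Prop where
  cen : ∀ g, Commute c g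
  c3 : c ^ 3 = 1
  val : ∀ g, ρ.character (c * g) = ζ * ρ.character g

omit [FiniteDimensional ℂ V] in
theorem Tw.one : Tw ρ 1 1 := ⟨Commute.one_left, one_pow 3, fun g => by rw [one_mul, one_mul]⟩

omit [FiniteDimensional ℂ V] in
theorem Tw.sq {c : X} {ζ : ℂ} (h : Tw ρ c ζ) : Tw ρ (c * c) (ζ * ζ) :=
  ⟨fun g => (h.cen g).mul_left (h.cen g), by rw [(Commute.refl c).mul_pow, h.c3, mul_one],
    fun g => by rw [mul_assoc, h.val, h.val, mul_assoc]⟩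

omit [FiniteDimensional ℂ V] in
theorem Tw.qi {c a : X} {ζ : ℂ} (h : Tw ρ c ζ) (ha : a ^ 3 = 1) : Qi (cy ρ (c * a) 3) 3 :=
  Qi_cy ρ (by rw [(h.cen a).mul_pow, h.c3, ha, mul_one])

omit [FiniteDimensional ℂ V] in
theorem Tw.tr {c : X} {ζ : ℂ} (h : Tw ρ c ζ) (a y : X) : τ (cy ρ (c * a) 3 * ρ y) =
    ρ.character y + ζ * ρ.character (a * y) + ζ ^ 2 * ρ.character (a ^ 2 * y) := by
  have h1 : (c * a) ^ 2 * y = c * (c * (a ^ 2 * y)) := by rw [(h.cen a).mul_pow, pow_two c]; group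
  simp only [cy, Finset.sum_range_succ, Finset.sum_range_zero, zero_add, add_mul, map_add, pow_zero, pow_one,
    ← map_mul, one_mul]
  show ρ.character y + ρ.character (c * a * y) + ρ.character ((c * a) ^ 2 * y) = _
  rw [h1, mul_assoc c, h.val, h.val, h.val]
  ring

omit [FiniteDimensional ℂ V] in
theorem Tw.tr2 {c c' : X} {ζ ζ' : ℂ} (h : Tw ρ c ζ) (h' : Tw ρ c' ζ') (a b y : X) :
    τ (cy ρ (c * a) 3 * cy ρ (c' * b) 3 * ρ y) =
      ρ.character y + ζ * ρ.character (a * y) + ζ ^ 2 * ρ.character (a ^ 2 * y) +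
      ζ' * (ρ.character (b * y) + ζ * ρ.character (a * (b * y)) + ζ ^ 2 * ρ.character (a ^ 2 * (b * y))) +
      ζ' ^ 2 * (ρ.character (b ^ 2 * y) + ζ * ρ.character (a * (b ^ 2 * y)) +
        ζ ^ 2 * ρ.character (a ^ 2 * (b ^ 2 * y))) := by
  have h0 : ∀ g w, g * (c' * w) = c' * (g * w) := fun g w => by rw [← mul_assoc, ← (h'.cen g).eq, mul_assoc]
  have h1 : (c' * b) ^ 2 * y = c' * (c' * (b ^ 2 * y)) := by rw [(h'.cen b).mul_pow, pow_two c']; group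
  have h2 : cy ρ (c' * b) 3 * ρ y = ρ y + ρ (c' * (b * y)) + ρ (c' * (c' * (b ^ 2 * y))) := by
    simp only [cy, Finset.sum_range_succ, Finset.sum_range_zero, zero_add, add_mul, pow_zero, pow_one, ← map_mul,
      one_mul, h1, mul_assoc c']
  rw [mul_assoc, h2, mul_add, mul_add, map_add, map_add, h.tr, h.tr, h.tr]
  simp only [h0, h'.val]
  ring

end Op

/-- the local configuration -/
structure Loc {G : Type} [Group G] (a b s t i j : G) : Prop where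
  q : Q8 b i j
  a3 : a ^ 3 = 1
  s2 : s ^ 2 = 1
  sa : s * a * s⁻¹ = b
  ab : a * b * a⁻¹ = b
  ai : a * i * a⁻¹ = i
  su : s * i ^ 2 * s⁻¹ = i ^ 2
  ta : t * a * t⁻¹ = a⁻¹
  ti : t * i * t⁻¹ = i⁻¹
  ts : t * s * t⁻¹ = s * i ^ 2
  ik : i * (s * i * s⁻¹) * i⁻¹ = s * i * s⁻¹

theorem comm_of {G : Type} [Group G] {x y : G} (h : x * y * x⁻¹ = y) : Commute x y := mul_inv_eq_iff_eq_mul.1 h

theorem conj_pow_eq {G : Type} [Group G] {x : G} {n : ℕ} (h : x ^ n = 1) (c : G) : (c * x * c⁻¹) ^ n = 1 := by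
  rw [conj_pow, h, mul_one, mul_inv_cancel]

/-- **the configuration lifts** -/
theorem Loc.lift {G : Type} [Group G] {φ : X →* G} (h : Ext (center X) φ) {a b s t i j : G} (L : Loc a b s t i j) :
    ∃ A B S T I J : X, Loc A B S T I J ∧ φ A = a ∧ φ B = b ∧ φ S = s ∧ φ I = i := by
  obtain ⟨T, rfl⟩ := h.surj t
  obtain ⟨A, rfl, ta, a3⟩ := h.exists_inv L.ta rfl
  obtain ⟨S, rfl, s2⟩ := h.exists_lift s (n := 2) (by norm_num) L.s2
  obtain ⟨I, rfl, i4⟩ := h.exists_lift i (n := 4) (by norm_num) L.q.i4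
  have hb : φ (S * A * S⁻¹) = b := by rw [map_mul, map_mul, map_inv, L.sa]
  have sb : S * (S * A * S⁻¹) * S⁻¹ = A := by
    calc S * (S * A * S⁻¹) * S⁻¹ = S ^ 2 * A * (S ^ 2)⁻¹ := by rw [pow_two]; group
      _ = A := by rw [s2]; group
  generalize eB : S * A * S⁻¹ = B at hb sb
  have hj : φ (B * I * B⁻¹) = j := by rw [map_mul, map_mul, map_inv, hb, L.q.bi]
  have j4 := conj_pow_eq i4 B
  generalize eJ : B * I * B⁻¹ = J at hj j4
  have u : ∀ {x y : X}, x ^ 4 = 1 → y ^ 4 = 1 → φ x = φ y → x = y := fun hx hy e =>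
    h.inj_of (by norm_num) (by norm_num) hx hy e
  have sq : ∀ {x : X}, x ^ 4 = 1 → (x ^ 2) ^ 4 = 1 := fun hx => by rw [← pow_mul, mul_comm, pow_mul, hx, one_pow]
  have s4 : S ^ 4 = 1 := by rw [show 4 = 2 * 2 from rfl, pow_mul, s2, one_pow]
  have ji : J * I * J⁻¹ = I⁻¹ := u (conj_pow_eq i4 _) (by rw [inv_pow, i4, inv_one])
    (by rw [map_mul, map_mul, map_inv, map_inv, hj, L.q.ji])
  have su : S * I ^ 2 * S⁻¹ = I ^ 2 := u (conj_pow_eq (sq i4) _) (sq i4)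
    (by rw [map_mul, map_mul, map_inv, map_pow, L.su])
  refine ⟨A, B, S, T, I, J, ⟨⟨i4, eJ, u (conj_pow_eq j4 _) ?_ ?_, ji, u (sq j4) (sq i4) ?_⟩, a3 L.a3, s2, eB, ?_,
    u (conj_pow_eq i4 _) i4 ?_, su, ta, u (conj_pow_eq i4 _) (by rw [inv_pow, i4, inv_one]) ?_,
    u (conj_pow_eq s4 _) ?_ ?_, u (conj_pow_eq (conj_pow_eq i4 _) _) (conj_pow_eq i4 _) ?_⟩, rfl, hb, rfl, rfl⟩
  · calc (I * J) ^ 4 = (I * (J * I * J⁻¹) * J ^ 2) ^ 2 := by
          rw [show 4 = 2 * 2 from rfl, pow_mul, pow_two (I * J), pow_two J]; congr 1; group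
      _ = J ^ 4 := by rw [ji, mul_inv_cancel, one_mul, ← pow_mul]
      _ = 1 := j4
  · rw [map_mul, map_mul, map_mul, map_inv, hb, hj, L.q.bj]
  · rw [map_pow, map_pow, hj, L.q.jj]
  · have h1 : A * B * A⁻¹ * B⁻¹ ∈ center X :=
      h.mem_iff.2 (by rw [map_mul, map_mul, map_mul, map_inv, map_inv, hb, L.ab, mul_inv_cancel])
    refine mul_inv_eq_one.1 (h.eq_one_of_pow h1 (m := 2) (by norm_num) ?_)
    have h2 : S * (A * B * A⁻¹ * B⁻¹) * S⁻¹ = A * B * A⁻¹ * B⁻¹ := by rw [← h.comm h1 S, mul_inv_cancel_right]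
    rw [pow_two]
    nth_rw 1 [← h2]
    calc S * (A * B * A⁻¹ * B⁻¹) * S⁻¹ * (A * B * A⁻¹ * B⁻¹) = (S * A * S⁻¹) * (S * B * S⁻¹) * (S * A * S⁻¹)⁻¹ *
        (S * B * S⁻¹)⁻¹ * (A * B * A⁻¹ * B⁻¹) := by group
      _ = 1 := by rw [eB, sb]; group
  · rw [map_mul, map_mul, map_inv, L.ai]
  · rw [map_mul, map_mul, map_inv, map_inv, L.ti]
  · rw [(comm_of su).mul_pow, s4, sq i4, mul_one]
  · rw [map_mul, map_mul, map_mul, map_inv, map_pow, L.ts]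
  · simp only [map_mul, map_inv, L.ik]

/-! ### consequences of the relations -/

section

variable {G : Type} [Group G] {a b s t i j : G} (L : Loc a b s t i j)
include L

theorem Loc.si : s⁻¹ = s := inv_eq_of_mul_eq_one_right ((pow_two s).symm.trans L.s2)

theorem Loc.sb : s * b * s⁻¹ = a := by
  rw [← L.sa, L.si, ← mul_assoc, ← mul_assoc, ← pow_two, L.s2, one_mul, mul_assoc, ← pow_two, L.s2, mul_one]

theorem Loc.b3 : b ^ 3 = 1 := L.sa ▸ conj_pow_eq L.a3 s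

theorem Loc.aj : Commute a j :=
  L.q.bi ▸ ((comm_of L.ab).mul_right (comm_of L.ai)).mul_right (comm_of L.ab).inv_right

theorem Loc.tb : t * b * t⁻¹ = b⁻¹ := by
  have h1 : i ^ 2 * a⁻¹ * (i ^ 2)⁻¹ = a⁻¹ := by
    rw [← ((comm_of L.ai).pow_right 2).inv_left.eq, mul_inv_cancel_right]
  calc t * b * t⁻¹ = (t * s * t⁻¹) * (t * a * t⁻¹) * (t * s * t⁻¹)⁻¹ := by rw [← L.sa]; group
    _ = s * (i ^ 2 * a⁻¹ * (i ^ 2)⁻¹) * s⁻¹ := by rw [L.ts, L.ta]; group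
    _ = b⁻¹ := by rw [h1, ← L.sa]; group

theorem Loc.a2 : a ^ 2 = a⁻¹ := eq_inv_of_mul_eq_one_left ((pow_succ a 2).symm.trans L.a3)

theorem Loc.b2 : b ^ 2 = b⁻¹ := eq_inv_of_mul_eq_one_left ((pow_succ b 2).symm.trans L.b3)

theorem Loc.tu : t * i ^ 2 * t⁻¹ = i ^ 2 := by
  rw [← conj_pow, L.ti, inv_pow, inv_eq_iff_mul_eq_one, ← pow_add, L.q.i4]

theorem Loc.bu : Commute b (i ^ 2) := comm_of (by rw [← conj_pow, L.q.bi, L.q.jj])

theorem Loc.q' : Q8 a (s * i * s⁻¹) (s * j * s⁻¹) := by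
  refine ⟨conj_pow_eq L.q.i4 s, ?_, ?_, ?_, ?_⟩
  · rw [← L.sb, ← L.q.bi]; group
  · calc a * (s * j * s⁻¹) * a⁻¹ = s * (b * j * b⁻¹) * s⁻¹ := by rw [← L.sb]; group
      _ = _ := by rw [L.q.bj]; group
  · calc _ = s * (j * i * j⁻¹) * s⁻¹ := by group
      _ = _ := by rw [L.q.ji]; group
  · rw [conj_pow, conj_pow, L.q.jj]

theorem Loc.bc {y : G} (h : Commute a y) : Commute b (s * y * s⁻¹) := by
  rw [← L.sa]
  exact h.conj s

theorem Loc.ij' : Commute i (s * j * s⁻¹) := by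
  rw [← L.q'.bi]
  exact ((comm_of L.ai).symm.mul_right (comm_of L.ik)).mul_right (comm_of L.ai).symm.inv_right

theorem Loc.jc {y : G} (h : Commute b y) (k : Commute i y) : Commute j y :=
  L.q.bi ▸ (h.mul_left k).mul_left h.inv_left

end

/-- integral values -/
theorem int12 [Finite X] {χ : X → ℂ} (hχ : IsCharacter X χ) (h6 : 6 ∣ Nat.card X) {y : X} (h : y ^ 12 = 1)
    (h7 : χ (y ^ 7) = χ y) (h5 : χ (y ^ 5) = χ y) (h11 : χ (y ^ 11) = χ y) : ∃ n : ℤ, χ y = n := by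
  refine GaloisBasic.exists_int_of_rat hχ y ((GaloisBasic.exists_rat_iff hχ y).2 fun m hm => ?_)
  have h2 : ¬ 2 ∣ m := fun e =>
    absurd (Nat.Coprime.eq_one_of_dvd (hm.coprime_dvd_left e) (dvd_trans (by norm_num) h6)) (by norm_num)
  have h3 : ¬ 3 ∣ m := fun e =>
    absurd (Nat.Coprime.eq_one_of_dvd (hm.coprime_dvd_left e) (dvd_trans (by norm_num) h6)) (by norm_num)
  rw [pow_eq_pow_mod m h]
  obtain e | e | e | e : m % 12 = 1 ∨ m % 12 = 5 ∨ m % 12 = 7 ∨ m % 12 = 11 := by omega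
  all_goals rw [e]
  exacts [by rw [pow_one], h5, h7, h11]

theorem int6 [Finite X] {χ : X → ℂ} (hχ : IsCharacter X χ) (h6 : 6 ∣ Nat.card X) {y : X} (h : y ^ 6 = 1)
    (h1 : χ y⁻¹ = χ y) : ∃ n : ℤ, χ y = n := by
  have h5 : y ^ 5 = y⁻¹ := eq_inv_of_mul_eq_one_left ((pow_succ y 5).symm.trans h)
  refine int12 hχ h6 (by rw [show 12 = 6 * 2 from rfl, pow_mul, h, one_pow]) ?_ (by rw [h5, h1]) ?_
  · rw [pow_succ, h, one_mul]
  · rw [show 11 = 6 + 5 from rfl, pow_add, h, one_mul, h5, h1]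

theorem cls {χ : X → ℂ} (hχ : IsCharacter X χ) {c g w : X} (e : c * g * c⁻¹ = w) : χ w = χ g := by
  obtain ⟨n, ρ, rfl⟩ := hχ
  rw [← e, ρ.char_conj]

/-- the values at the products with an element `y` of the centre of the configuration -/
theorem Loc.sec [Finite X] {χ : X → ℂ} (hχ : IsCharacter X χ) (h6 : 6 ∣ Nat.card X) {a b s t i j : X}
    (L : Loc a b s t i j) {y : X} (ay : Commute a y) (hb : Commute b y) (sy : s * y * s⁻¹ = y) (ty : t * y * t⁻¹ = y)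
    (y2 : y ^ 2 = 1) : ∃ A B C : ℤ, (χ (a * y) = A ∧ χ (a ^ 2 * y) = A ∧ χ (b * y) = A ∧ χ (b ^ 2 * y) = A) ∧
      (χ (a * (b * y)) = B ∧ χ (a ^ 2 * (b ^ 2 * y)) = B) ∧ χ (a * (b ^ 2 * y)) = C ∧ χ (a ^ 2 * (b * y)) = C := by
  have yi : y⁻¹ = y := inv_eq_of_mul_eq_one_right ((pow_two y).symm.trans y2)
  have ab := comm_of L.ab
  have p6 : ∀ {g : X}, g ^ 3 = 1 → Commute g y → (g * y) ^ 6 = 1 := fun h3 c => by
    rw [c.mul_pow, show 6 = 3 * 2 from rfl, pow_mul, h3, one_pow, one_mul, mul_comm, pow_mul, y2, one_pow]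
  have iv : ∀ {g : X}, Commute g y → (g * y)⁻¹ = g⁻¹ * y := fun c => by rw [c.eq, mul_inv_rev, yi]
  have tg : ∀ {g : X}, t * g * t⁻¹ = g⁻¹ → χ (g⁻¹ * y) = χ (g * y) := fun h =>
    cls hχ (c := t) (by rw [← h, ← ty]; nth_rw 1 [ty]; group)
  have t1 : t * (a * b) * t⁻¹ = (a * b)⁻¹ := by rw [ab.eq, mul_inv_rev, ← L.ta, ← L.tb, ← ab.eq]; group
  have t2 : t * (a * b⁻¹) * t⁻¹ = (a * b⁻¹)⁻¹ := by
    calc t * (a * b⁻¹) * t⁻¹ = (t * a * t⁻¹) * (t * b * t⁻¹)⁻¹ := by group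
      _ = _ := by rw [L.ta, L.tb, ab.inv_right.eq, mul_inv_rev]
  obtain ⟨A, hA⟩ := int6 hχ h6 (p6 L.a3 ay) (by rw [iv ay, tg L.ta])
  obtain ⟨B, hB⟩ := int6 hχ h6 (p6 (g := a * b) (by rw [ab.mul_pow, L.a3, L.b3, mul_one]) (ay.mul_left hb))
    (by rw [iv (ay.mul_left hb), tg t1])
  obtain ⟨C, hC⟩ := int6 hχ h6 (p6 (g := a * b⁻¹) (by rw [ab.inv_right.mul_pow, L.a3, inv_pow, L.b3, inv_one, mul_one])
    (ay.mul_left hb.inv_left)) (by rw [iv (ay.mul_left hb.inv_left), tg t2])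
  have h1 : χ (b * y) = A := hA ▸ cls hχ (c := s) (by rw [← L.sa, ← sy]; nth_rw 1 [sy]; group)
  refine ⟨A, B, C, ⟨hA, by rw [L.a2, tg L.ta, hA], h1, by rw [L.b2, tg L.tb, h1]⟩, ⟨by rw [← mul_assoc, hB], ?_⟩,
    by rw [L.b2, ← mul_assoc, hC], ?_⟩
  · rw [L.a2, L.b2, ← mul_assoc, ← mul_inv_rev, ← ab.eq, tg t1, hB]
  · rw [L.a2, ← mul_assoc, ← hC, ← tg t2, ab.inv_right.eq, mul_inv_rev, inv_inv]

/-- the congruences -/
structure Cong (d x2 x4 ya ya6 yt yb yb6 yc yc6 : ℤ) : Prop where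
  k : 64 ∣ 2 * d + 38 * x2 + 24 * x4
  c1 : 12 ∣ d + x2 + 2 * x4 + 2 * (ya + ya6 + 2 * yt)
  c2 : 12 ∣ d + x2 + 2 * x4 + -1 * (ya + ya6 + 2 * yt)
  q1 : 24 ∣ d + x2 + 6 * x4 + 2 * (ya + ya6 + 6 * yt)
  q2 : 24 ∣ d + x2 + 6 * x4 + -1 * (ya + ya6 + 6 * yt)
  e1 : 9 ∣ d + 4 * ya + 2 * yb + 2 * yc
  e2 : 9 ∣ d + 1 * ya + -1 * yb + -1 * yc
  e3 : 9 ∣ d + -2 * ya + -1 * yb + 2 * yc
  e4 : 9 ∣ d + -2 * ya + 2 * yb + -1 * yc
  f1 : 18 ∣ d + 4 * ya + 2 * yb + 2 * yc + (x2 + 4 * ya6 + 2 * yb6 + 2 * yc6)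
  f2 : 18 ∣ d + 1 * ya + -1 * yb + -1 * yc + (x2 + 1 * ya6 + -1 * yb6 + -1 * yc6)
  f3 : 18 ∣ d + -2 * ya + -1 * yb + 2 * yc + (x2 + -2 * ya6 + -1 * yb6 + 2 * yc6)
  f4 : 18 ∣ d + -2 * ya + 2 * yb + -1 * yc + (x2 + -2 * ya6 + 2 * yb6 + -1 * yc6)

/-- **the restriction to the centraliser of the involution** -/
theorem Loc.cong [Finite X] {χ : X → ℂ} (hχ : IsCharacter X χ) (h6 : 6 ∣ Nat.card X) {a b s t i j : X}
    (L : Loc a b s t i j) {z : X} {ω : ℂ} (hz : ∀ g, Commute z g) (z3 : z ^ 3 = 1) (hv : ∀ g, χ (z * g) = ω * χ g)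
    (hω : ω ^ 2 + ω + 1 = 0) {d x2 x4 : ℤ} (h1 : χ 1 = d) (h2 : χ (i ^ 2) = x2) (h4 : χ i = x4)
    (h2' : χ (i * (s * i * s⁻¹)) = x2) : ∃ ya ya6 yt yb yb6 yc yc6 : ℤ,
      (χ a = ya ∧ χ (a ^ 2) = ya ∧ χ (a * i ^ 2) = ya6 ∧ χ (a * i) = yt ∧ χ (a * b) = yb ∧ χ (a * (b * i ^ 2)) = yb6 ∧
        χ (a * b ^ 2) = yc ∧ χ (a * (b ^ 2 * i ^ 2)) = yc6) ∧ Cong d x2 x4 ya ya6 yt yb yb6 yc yc6 := by
  have ai := comm_of L.ai
  have u2 : (i ^ 2) ^ 2 = 1 := by rw [← pow_mul, L.q.i4]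
  obtain ⟨ya, yb, yc, hA, hB, hC⟩ := L.sec hχ h6 (Commute.one_right a) (Commute.one_right b) (by group) (by group)
    (one_pow 2)
  obtain ⟨ya6, yb6, yc6, kA, kB, kC⟩ := L.sec hχ h6 (ai.pow_right 2) L.bu L.su L.tu u2
  have m1 : χ (a * i ^ 3) = χ (a * i) := cls hχ (c := j) (by rw [← L.q.i3, ← mul_assoc, ← L.aj.eq]; group)
  have m2 : χ (a ^ 2 * i ^ 3) = χ (a * i) := cls hχ (c := t) (by rw [L.a2, ← L.q.i3, L.q.ji, ← L.ta, ← L.ti]; group)
  have m3 : χ (a ^ 2 * i) = χ (a * i) := (cls hχ (c := j) (g := a ^ 2 * i) (by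
    rw [← L.q.i3, ← mul_assoc, ← (L.aj.pow_left 2).eq]; group)).symm.trans m2
  have pw : ∀ n, (a * i) ^ n = a ^ (n % 3) * i ^ (n % 4) := fun n => by
    rw [ai.mul_pow, ← pow_eq_pow_mod n L.a3, ← pow_eq_pow_mod n L.q.i4]
  obtain ⟨yt, ht⟩ := int12 hχ h6 (y := a * i) (by rw [pw]; simp) (by rw [pw, ← m1]; simp) (by rw [pw, ← m3]; simp)
    (by rw [pw, ← m2])
  refine ⟨ya, ya6, yt, yb, yb6, yc, yc6, ⟨by rw [← hA.1, mul_one], by rw [← hA.2.1, mul_one], kA.1, ht,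
    by rw [← hB.1, mul_one], kB.1, by rw [← hC.1, mul_one], kC.1⟩, ?_⟩
  have hc := hχ
  obtain ⟨n, ρ, rfl⟩ := hχ
  have w : Tw ρ z ω := ⟨hz, z3, hv⟩
  have w3 : ω ^ 3 = 1 := by linear_combination (ω - 1) * hω
  have tA : ∀ {c ζ}, Tw ρ c ζ → ∀ α : ℤ, ζ + ζ ^ 2 = α → (12 ∣ d + x2 + 2 * x4 + α * (ya + ya6 + 2 * yt)) ∧
      24 ∣ d + x2 + 6 * x4 + α * (ya + ya6 + 6 * yt) := fun {c ζ} h α hα => by
    have c0 : ∀ {g}, Commute a g → Commute (cy ρ (c * a) 3) (ρ g) := fun k =>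
      (cy_comm ρ (((h.cen _).mul_left k).symm.map ρ) 3).symm
    have v1 := h.tr ρ a 1
    rw [map_one, mul_one, hA.1, hA.2.1, h1] at v1
    have v2 := h.tr ρ a (i ^ 2)
    rw [kA.1, kA.2.1, h2] at v2
    have v3 := h.tr ρ a i
    rw [m3, ht, h4] at v3
    refine ⟨((h.qi ρ L.a3).mul (Qi_cy ρ L.q.i4) (cy_comm ρ (c0 ai) 4)).dvd (by norm_num) ?_,
      ((h.qi ρ L.a3).mul (L.q.qi ρ) (eQ_comm ρ (c0 ai) (c0 L.aj))).dvd (by norm_num) ?_⟩
    · rw [L.q.trC ρ (c0 L.aj), v1, v2, v3]; push_cast; rw [← hα]; ring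
    · rw [L.q.trQ ρ (c0 ai) (c0 L.aj) (c0 (comm_of L.ab)), v1, v2, v3]; push_cast; rw [← hα]; ring
  have tE : ∀ {c ζ c' ζ'}, Tw ρ c ζ → Tw ρ c' ζ' → ∀ α β γ : ℤ, ζ + ζ ^ 2 + ζ' + ζ' ^ 2 = α →
      ζ * ζ' + ζ ^ 2 * ζ' ^ 2 = β → ζ * ζ' ^ 2 + ζ ^ 2 * ζ' = γ → (9 ∣ d + α * ya + β * yb + γ * yc) ∧
      18 ∣ d + α * ya + β * yb + γ * yc + (x2 + α * ya6 + β * yb6 + γ * yc6) := fun {c ζ c' ζ'} h h' α β γ hα hβ hγ => by
    have q := (h.qi ρ L.a3).mul (h'.qi ρ L.b3) (cy_comm ρ (cy_comm ρ (Commute.map (((h.cen _).mul_left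
      ((h'.cen a).symm.mul_right (comm_of L.ab))).symm) ρ) 3).symm 3)
    have v1 := h.tr2 ρ h' a b 1
    rw [map_one, mul_one, hA.1, hA.2.1, hA.2.2.1, hA.2.2.2, hB.1, hB.2, hC.1, hC.2, h1] at v1
    have v2 := h.tr2 ρ h' a b (i ^ 2)
    rw [kA.1, kA.2.1, kA.2.2.1, kA.2.2.2, kB.1, kB.2, kC.1, kC.2, h2] at v2
    refine ⟨q.dvd (by norm_num) ?_, (q.mul (Qi_cy ρ u2) (cy_comm ρ (Commute.mul_left
      (cy_comm ρ (((h.cen _).mul_left (ai.pow_right 2)).symm.map ρ) 3).symm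
      (cy_comm ρ (((h'.cen _).mul_left L.bu).symm.map ρ) 3).symm) 2)).dvd (by norm_num) ?_⟩
    · rw [v1]; push_cast; rw [← hα, ← hβ, ← hγ]; ring
    · rw [show cy ρ (i ^ 2) 2 = 1 + ρ (i ^ 2) by
        rw [cy, Finset.sum_range_succ, Finset.sum_range_one, pow_zero, pow_one, map_one], mul_add, mul_one, map_add, v1, v2]
      push_cast; rw [← hα, ← hβ, ← hγ]; ring
  have a1 := tA (Tw.one ρ) 2 (by norm_num)
  have a2 := tA w (-1) (by push_cast; linear_combination hω)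
  have e1 := tE (Tw.one ρ) (Tw.one ρ) 4 2 2 (by norm_num) (by norm_num) (by norm_num)
  have e2 := tE w (Tw.one ρ) 1 (-1) (-1) (by push_cast; linear_combination hω) (by push_cast; linear_combination hω)
    (by push_cast; linear_combination hω)
  have e3 := tE w w (-2) (-1) 2 (by push_cast; linear_combination 2 * hω) (by push_cast; linear_combination hω + ω * w3)
    (by push_cast; linear_combination 2 * w3)
  have e4 := tE w (w.sq ρ) (-2) 2 (-1) (by push_cast; linear_combination 2 * hω + ω * w3)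
    (by push_cast; linear_combination (ω ^ 3 + 2) * w3) (by push_cast; linear_combination hω + (ω ^ 2 + ω) * w3)
  refine ⟨?_, a1.1, a2.1, a1.2, a2.2, e1.1, e2.1, e3.1, e4.1, e1.2, e2.2, e3.2, e4.2⟩
  have ik := comm_of L.ik
  have ci := eQ_comm ρ (ik.map ρ) (L.ij'.map ρ)
  have cj := eQ_comm ρ ((L.jc (L.bc ai) ik).map ρ) ((L.jc (L.bc L.aj) L.ij').map ρ)
  have cb := eQ_comm ρ ((L.bc ai).map ρ) ((L.bc L.aj).map ρ)
  have su : (s * i * s⁻¹) ^ 2 = i ^ 2 := by rw [conj_pow, L.su]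
  have g : ∀ y, Commute i y → Commute a y → Commute y (s * i * s⁻¹) → Commute y (s * j * s⁻¹) →
      LinearMap.trace ℂ _ (eQ ρ (s * i * s⁻¹) (s * j * s⁻¹) * ρ y) =
        ρ.character y + ρ.character (y * i ^ 2) + 6 * ρ.character (y * (s * i * s⁻¹)) := fun y _ k1 k2 k3 => by
    rw [LinearMap.trace_mul_comm, L.q'.trQ ρ (k2.map ρ) (k3.map ρ) (k1.symm.map ρ), su, ← map_mul ρ, ← map_mul ρ]
    rfl
  have g1 := g 1 (Commute.one_right _) (Commute.one_right _) (Commute.one_left _) (Commute.one_left _)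
  have g2 := g (i ^ 2) ((Commute.refl i).pow_right 2) (ai.pow_right 2) (ik.pow_left 2) (L.ij'.pow_left 2)
  have g3 := g i (Commute.refl i) ai ik L.ij'
  have n1 : ρ.character (s * i * s⁻¹) = x4 := h4 ▸ cls hc rfl
  have n2 : ρ.character (i * i ^ 2) = x4 := h4 ▸ cls hc (c := j) (by rw [L.q.i3, ← pow_succ'])
  have n3 : ρ.character (i ^ 2 * (s * i * s⁻¹)) = x4 := n2 ▸ cls hc (c := s) (by
    rw [← pow_succ', pow_succ, ← L.su]; nth_rw 1 [L.su]; group)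
  rw [map_one, mul_one, one_mul, one_mul, h1, h2, n1] at g1
  rw [← pow_add, L.q.i4, h1, h2, n3] at g2
  rw [h4, n2, h2'] at g3
  refine ((L.q'.qi ρ).mul (L.q.qi ρ) (eQ_comm ρ ci.symm cj.symm)).dvd (by norm_num) ?_
  rw [L.q.trQ ρ ci.symm cj.symm cb.symm, g1, g2, g3]
  push_cast
  ring

/-- **elements of order nine** -/
theorem nine [Finite X] {χ : X → ℂ} (hχ : IsCharacter X χ) {x c a : X} {ζ : ℂ} (hc : ∀ g, Commute c g) (c3 : c ^ 3 = 1)
    (hv : ∀ g, χ (c * g) = ζ * χ g) (z3 : ζ ^ 3 = 1) (a3 : a ^ 3 = 1) (hx : x ^ 3 = c * a) {d y : ℤ} (h1 : χ 1 = d)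
    (ha : χ a = y) (ha2 : χ (a ^ 2) = y) (d3 : 3 ∣ d) (y3 : 3 ∣ y) {r : ℝ}
    (hr : ∀ k ∈ [1, 2, 4, 5, 7, 8], Complex.normSq (χ (x ^ k)) = r) : ∃ n : ℕ, 2 * r = 3 * n ∧ (n = 0 → 9 ∣ d - y) := by
  have x9 : x ^ 9 = 1 := by rw [show 9 = 3 * 3 from rfl, pow_mul, hx, (hc a).mul_pow, c3, a3, mul_one]
  have x6 : x ^ 6 = c * (c * a ^ 2) := by rw [show 6 = 3 * 2 from rfl, pow_mul, hx, (hc a).mul_pow, pow_two c, mul_assoc]
  have key : ∀ ψ : X → ℂ, IsCharacter X ψ → ∃ m : ℕ, ∑ k ∈ Finset.range 9, ψ (x ^ k) = 9 * m := fun ψ hψ => by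
    obtain ⟨n, ρ, rfl⟩ := hψ
    have h := Qi_cy ρ x9
    have h0 : ((9 : ℕ) : ℂ) ≠ 0 := by norm_num
    have h2 : IsIdempotentElem (((9 : ℕ) : ℂ)⁻¹ • cy ρ x 9) := by
      rw [IsIdempotentElem, smul_mul_assoc, mul_smul_comm, h, smul_smul _ ((9 : ℕ) : ℂ), inv_mul_cancel₀ h0, one_smul]
    have h3 := (LinearMap.IsIdempotentElem.isProj_range _ h2).trace
    rw [map_smul, smul_eq_mul, inv_mul_eq_iff_eq_mul₀ h0, cy, map_sum] at h3
    exact ⟨_, h3⟩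
  have nz : Complex.normSq ζ = 1 := by
    have h := congrArg Complex.normSq z3
    rwa [map_pow, map_one, pow_eq_one_iff_of_nonneg (Complex.normSq_nonneg _) (by norm_num)] at h
  simp only [List.forall_mem_cons, List.not_mem_nil, false_imp_iff, implies_true, and_true] at hr
  obtain ⟨r1, r2, r4, r5, r7, r8⟩ := hr
  obtain ⟨m, hm⟩ := key _ (Core.isCharacter_mul hχ (Core.isCharacter_conj hχ))
  simp only [Finset.sum_range_succ, Finset.sum_range_zero, Pi.mul_apply, Complex.mul_conj, r1, r2, r4, r5, r7, r8,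
    pow_zero, h1, hx, x6, hv, ha, ha2, map_mul, nz, one_mul, Complex.normSq_intCast] at hm
  have hm' : (d : ℝ) * d + 2 * (y * y) + 6 * r = 9 * m := by
    have : (((d : ℝ) * d + 2 * (y * y) + 6 * r : ℝ) : ℂ) = ((9 * m : ℝ) : ℂ) := by
      push_cast at hm ⊢
      linear_combination hm
    exact_mod_cast this
  obtain ⟨e, rfl⟩ := d3
  obtain ⟨f, rfl⟩ := y3
  have r0 : 0 ≤ r := r1 ▸ Complex.normSq_nonneg _
  have h2 : 2 * r = 3 * ((m - e * e - 2 * (f * f) : ℤ) : ℝ) := by push_cast at hm' ⊢; linarith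
  obtain ⟨n, hn⟩ := Int.eq_ofNat_of_zero_le (a := m - e * e - 2 * (f * f)) (by
    have : (0 : ℝ) ≤ ((m - e * e - 2 * (f * f) : ℤ) : ℝ) := by linarith
    exact_mod_cast this)
  refine ⟨n, by rw [h2, hn, Int.cast_natCast], fun h0 => ?_⟩
  rw [hn, h0] at h2
  obtain rfl : r = 0 := by simpa using h2
  rw [Complex.normSq_eq_zero] at r1 r2 r4 r5 r7 r8
  obtain ⟨m, hm⟩ := key _ hχ
  simp only [Finset.sum_range_succ, Finset.sum_range_zero, r1, r2, r4, r5, r7, r8, pow_zero, h1, hx, x6, hv, ha,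
    ha2] at hm
  by_cases hζ : ζ = 1
  · have h3 : ((3 * e + 2 * (3 * f) : ℤ) : ℂ) = ((9 * m : ℤ) : ℂ) := by
      rw [hζ] at hm; push_cast at hm ⊢; linear_combination hm
    have h4 := Int.cast_injective h3
    omega
  · have h5 : ζ ^ 2 + ζ + 1 = 0 := mul_left_cancel₀ (sub_ne_zero.2 hζ) (by linear_combination z3)
    have h3 : ((3 * e - 3 * f : ℤ) : ℂ) = ((9 * m : ℤ) : ℂ) := by
      push_cast at hm ⊢; linear_combination hm - 3 * f * h5
    have h4 := Int.cast_injective h3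
    omega

end Cfsg.Agent.MK.U43.GI
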