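import Cfsg.Agent.MK.S2.Cov
import Cfsg.Agent.MK.U43.GI

/-!
# MK, the triple covers of `U₄(3)`: no row with the value `± 2` at the elements of order eight (helper86)
-/

set_option autoImplicit false
set_option maxRecDepth 100000

namespace Cfsg.Agent.MK.U43.GN

open Cfsg.Agent.TAB.Eng Cfsg.Agent.MK.S2

/-- divisibility -/
def dv (m : ℕ) (x : ℤ) : Bool := Nat.beq (Nat.mod x.natAbs m) 0

theorem dv_of {m : ℕ} {x : ℤ} (h : (m : ℤ) ∣ x) : dv m x = true :=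
  Nat.beq_eq ▸ Nat.mod_eq_zero_of_dvd (Int.natCast_dvd.1 h)

/-- one step of the search -/
noncomputable def nd (c : ℕ) (p : ℤ → Bool) (k : ℤ → ℕ → Bool) (B : ℕ) : Bool :=
  loop c B (fun v => cond (p v) (frc (c * (v.natAbs * v.natAbs)) fun q =>
    cond (Nat.ble q B) (frc (B - q) (k v)) true) true) 100000 0

theorem nd_spec {c B R : ℕ} {p : ℤ → Bool} {k : ℤ → ℕ → Bool} (h : nd c p k B = true) {v : ℤ} (hp : p v = true)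
    (hB : (B : ℤ) = c * v ^ 2 + R) : k v R = true := by
  have h1 : B = c * (v.natAbs * v.natAbs) + R := by
    rw [pow_two, ← Int.natAbs_mul_self] at hB
    exact_mod_cast hB
  have h2 := loop_spec h (v := v) (by omega) (by omega)
  rw [hp, cond_true, frc_eq, Nat.ble_eq_true_of_le (by omega), cond_true, frc_eq, h1, Nat.add_sub_cancel_left] at h2
  exact h2

theorem srch : nd 1 (fun d => decide (0 < d) && dv 6 d) (fun d =>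
    nd 933120 (fun x7 => dv 7 (d - x7)) fun _ => nd 653184 (fun x5 => dv 5 (d - x5)) fun _ =>
    nd 2835 (fun x2 => dv 16 (x2 - d)) fun x2 => nd 34020 (fun x4 => dv 32 (4 * x4 - 3 * d - x2)) fun x4 =>
    nd 272160 (fun yt => dv 12 (d + 4 * yt - x4)) fun yt => nd 45360 (fun ya6 => dv 48 (d + 16 * ya6 - x2)) fun ya6 =>
    nd 90720 (fun yb6 => dv 48 (d + 16 * yb6 - x2)) fun yb6 =>
    nd 90720 (fun yc6 => dv 36 (4 * yc6 - 3 * d - x2 - 4 * ya6 - 8 * yb6)) fun yc6 =>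
    nd 204120 (fun xb => dv 2 xb) fun _ =>
    nd 560 (fun ya => dv 96 (3 * d + x2 + 4 * ya - 4 * x4 - 8 * yt - 28 * ya6)) fun ya =>
    nd 3360 (fun yb => dv 48 (d + 8 * yb - x2 - 8 * yb6)) fun yb =>
    nd 3360 (fun yc => dv 288 (11 * d + x2 + 28 * ya6 + 32 * yb6 + 16 * yc - 12 * x4 - 24 * yt - 16 * yc6 - 4 * ya -
      32 * yb)) fun _ =>
    nd 40320 (fun _ => true) fun _ R => !(Nat.beq (R % 362880) 0) || (Nat.beq R 0 && !(dv 9 (d - ya)))) 1632960 =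
      true := by decide +kernel

/-- **the search** -/
theorem num {d x2 x4 xb x5 x7 ya ya6 yt yb yb6 yc yc6 yd : ℤ} {n : ℕ} (h0 : 0 < d) (h3 : 3 ∣ d) (h5 : 5 ∣ d - x5)
    (h7 : 7 ∣ d - x7) (p1 : 2 ∣ x4) (p2 : 2 ∣ x4 - x2) (p4 : 2 ∣ xb - x2)
    (C : GI.Cong d x2 x4 ya ya6 yt yb yb6 yc yc6)
    (h9 : n = 0 → 9 ∣ d - ya)
    (hN : 1632960 = d ^ 2 + 933120 * x7 ^ 2 + 653184 * x5 ^ 2 + 2835 * x2 ^ 2 + 34020 * x4 ^ 2 + 272160 * yt ^ 2 +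
      45360 * ya6 ^ 2 + 90720 * yb6 ^ 2 + 90720 * yc6 ^ 2 + 204120 * xb ^ 2 + 560 * ya ^ 2 + 3360 * yb ^ 2 +
      3360 * yc ^ 2 + 40320 * yd ^ 2 + 362880 * n) : False := by
  obtain ⟨kh3, h3⟩ := h3
  obtain ⟨kp1, p1⟩ := p1
  obtain ⟨kp2, p2⟩ := p2
  obtain ⟨kp4, p4⟩ := p4
  obtain ⟨kk, k⟩ := C.k
  obtain ⟨kc1, c1⟩ := C.c1
  obtain ⟨kc2, c2⟩ := C.c2
  obtain ⟨kq1, q1⟩ := C.q1
  obtain ⟨kq2, q2⟩ := C.q2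
  obtain ⟨ke1, e1⟩ := C.e1
  obtain ⟨ke2, e2⟩ := C.e2
  obtain ⟨ke3, e3⟩ := C.e3
  obtain ⟨ke4, e4⟩ := C.e4
  obtain ⟨kf1, f1⟩ := C.f1
  obtain ⟨kf2, f2⟩ := C.f2
  obtain ⟨kf3, f3⟩ := C.f3
  obtain ⟨kf4, f4⟩ := C.f4
  have t1 : (6 : ℤ) ∣ d :=
    ⟨(-1) * kh3 - kp1 - 8 * kk - 6 * kc1 + 10 * kq1 + 4 * kq2 - 3 * ke1 + 3 * ke3 - 4 * kf1 + 6 * kf2 + 2 * kf3 + 8 * kf4 + 4 * x2 + x4 + 4 * ya + 2 * ya6 - 2 * yt + yb + yc + yc6, by linarith⟩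
  have t2 : (16 : ℤ) ∣ x2 - d :=
    ⟨(-1) * kp2 + 10 * kk - 3 * kq1 - 6 * kq2 - 3 * ke1 + 3 * ke3 - 6 * kf1 + 6 * kf4 - 6 * x2 - x4 + 4 * ya + 2 * ya6 + yb + yc + yc6, by linarith⟩
  have t3 : (32 : ℤ) ∣ 4 * x4 - 3 * d - x2 :=
    ⟨(-1) * kp2 + kk - 6 * kc1 - 9 * kq1 + 6 * kq2 - 3 * ke1 + 3 * ke3 - 3 * kf1 - 6 * kf3 + d + 2 * x4 + 4 * ya + 2 * ya6 + 8 * yt + yb + yc + yc6, by linarith⟩
  have t4 : (12 : ℤ) ∣ d + 4 * yt - x4 :=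
    ⟨kh3 - kp2 - 4 * kk + 4 * kc1 - 9 * kq1 - 10 * kq2 + 3 * ke1 - 3 * ke3 - 2 * kf1 - 6 * kf2 - 8 * kf3 + 4 * kf4 + d + 3 * x2 + 6 * x4 - 2 * ya + yt - 2 * yb - yb6 + yc + yc6, by linarith⟩
  have t5 : (48 : ℤ) ∣ d + 16 * ya6 - x2 :=
    ⟨kh3 + 10 * kk - 3 * kc1 - 7 * kq1 - 10 * kq2 - 2 * ke1 - ke2 - 3 * ke3 + 2 * kf1 + 2 * kf2 - 8 * kf3 + 4 * kf4 + d - 5 * x2 + x4 + 2 * yt - yb - yb6 + 2 * yc + yc6, by linarith⟩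
  have t6 : (48 : ℤ) ∣ d + 16 * yb6 - x2 :=
    ⟨kh3 - 6 * kk + 3 * kc1 + 9 * kq1 - 2 * kq2 + 3 * ke1 + 2 * ke2 - 2 * ke3 - 2 * kf1 + 2 * kf2 + 2 * kf3 - 2 * kf4 - d + 3 * x2 - 3 * ya - ya6 - 6 * yt + yb6, by linarith⟩
  have t7 : (36 : ℤ) ∣ 4 * yc6 - 3 * d - x2 - 4 * ya6 - 8 * yb6 :=
    ⟨(-1) * kh3 - kp2 - 16 * kk + 3 * kc1 - 4 * kq2 + 3 * ke1 - ke2 - 4 * ke3 - 2 * kf1 - 2 * kf2 - 4 * kf3 + 6 * kf4 + d + 9 * x2 + 7 * x4 - 2 * ya - 2 * yt - 2 * yb - yb6 + yc + yc6, by linarith⟩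
  have t8 : (2 : ℤ) ∣ xb :=
    ⟨(-1) * kp1 - kp2 - kp4 - 3 * kc1 + 6 * kq1 - x2 + xb - 2 * yt, by linarith⟩
  have t9 : (96 : ℤ) ∣ 3 * d + x2 + 4 * ya - 4 * x4 - 8 * yt - 28 * ya6 :=
    ⟨(-1) * kh3 - kp2 - 11 * kk + 2 * kc1 - 2 * kq1 + 3 * kq2 - 4 * ke1 + ke2 - 3 * kf1 + 8 * kf2 - 4 * kf3 - 4 * kf4 + d + 6 * x2 + 4 * x4 + ya - ya6 + yt + 2 * yb + yb6 + 2 * yc + yc6, by linarith⟩
  have ta : (48 : ℤ) ∣ d + 8 * yb - x2 - 8 * yb6 :=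
    ⟨(-6) * kk + 3 * kc1 + kq1 - 10 * kq2 - 3 * ke1 - 2 * ke2 + 2 * ke3 - 9 * kf1 + 8 * kf2 - 5 * kf3 + d + 4 * x2 + 4 * x4 + 2 * ya - 4 * yt + 2 * yb + yb6 + 2 * yc + 2 * yc6, by linarith⟩
  have tb : (288 : ℤ) ∣ 11 * d + x2 + 28 * ya6 + 32 * yb6 + 16 * yc - 12 * x4 - 24 * yt - 16 * yc6 - 4 * ya -
    32 * yb :=
    ⟨(-1) * kp2 - 13 * kk - kc1 - 7 * kq1 + 5 * kq2 + ke2 + ke3 + 7 * kf1 - 9 * kf2 - 5 * kf3 - 4 * kf4 + d + 8 * x2 + 6 * x4 - ya - ya6 + 5 * yt - yb - yb6 - yc - yc6, by linarith⟩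
  have sq : ∀ (c : ℕ) (v : ℤ) (R : ℕ), ∃ B : ℕ, (B : ℤ) = c * v ^ 2 + R := fun c v R =>
    ⟨(c * v ^ 2 + R).toNat, Int.toNat_of_nonneg (by positivity)⟩
  obtain ⟨B1, b1⟩ := sq 40320 yd (362880 * n)
  obtain ⟨B2, b2⟩ := sq 3360 yc B1
  obtain ⟨B3, b3⟩ := sq 3360 yb B2
  obtain ⟨B4, b4⟩ := sq 560 ya B3
  obtain ⟨B5, b5⟩ := sq 204120 xb B4
  obtain ⟨B6, b6⟩ := sq 90720 yc6 B5
  obtain ⟨B7, b7⟩ := sq 90720 yb6 B6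
  obtain ⟨B8, b8⟩ := sq 45360 ya6 B7
  obtain ⟨B9, b9⟩ := sq 272160 yt B8
  obtain ⟨Ba, ba⟩ := sq 34020 x4 B9
  obtain ⟨Bb, bb⟩ := sq 2835 x2 Ba
  obtain ⟨Bc, bc⟩ := sq 653184 x5 Bb
  obtain ⟨Bd, bd⟩ := sq 933120 x7 Bc
  have h := nd_spec (nd_spec (nd_spec (nd_spec (nd_spec (nd_spec (nd_spec (nd_spec (nd_spec (nd_spec (nd_spec (nd_spec
    (nd_spec (nd_spec srch (v := d) (R := Bd) (by rw [decide_eq_true h0, dv_of t1]; rfl) (by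
      rw [bd, bc, bb, ba, b9, b8, b7, b6, b5, b4, b3, b2, b1]; push_cast; linarith))
    (dv_of h7) bd) (dv_of h5) bc) (dv_of t2) bb) (dv_of t3) ba) (dv_of t4) b9) (dv_of t5) b8) (dv_of t6) b7)
    (dv_of t7) b6) (dv_of t8) b5) (dv_of t9) b4) (dv_of ta) b3) (dv_of tb) b2) rfl b1
  rw [Nat.mul_mod_right, Nat.beq_refl, Bool.not_true, Bool.false_or, Bool.and_eq_true, Nat.beq_eq,
    dv_of (h9 (by omega))] at h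
  exact Bool.noConfusion h.2

end Cfsg.Agent.MK.U43.GN
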