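import Cfsg.Agent.MK.U43.Mod
import Cfsg.Agent.MK.U43.GT
import Cfsg.Agent.MK.U43.GN

/-!
# MK, the triple covers of `U₄(3)`: eight characters of odd degree over a faithful central character (helper86)
-/

set_option autoImplicit false
set_option maxRecDepth 100000

namespace Cfsg.Agent.MK.U43

open Cfsg Subgroup Cfsg.Agent.MK.T Cfsg.Agent.TwoF.XL.U43 Cfsg.Agent.Characters Cfsg.Agent.Characters.Core
open Cfsg.Agent.H86.TI Cfsg.Agent.H407.TI Cfsg.Agent.MK.U43.GT Cfsg.Agent.MK.U43.GI Cfsg.Agent.TAB.Eng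

namespace GH

def wa : List ℕ := [4, 4, 1, 11, 9, 2]
def wb : List ℕ := [4, 5, 4, 5, 4, 8]

theorem inv_word {u v : List ℕ} (h : eqB (u ++ v) [] = true) : Wm v = (Wm u)⁻¹ :=
  eq_inv_of_mul_eq_one_right ((Wm_append u v).symm.trans (Wm_eq h))

theorem pow_word {u : List ℕ} {n : ℕ} (h : eqB (pw u n) [] = true) : Wm u ^ n = 1 := (Wm_pw u n).symm.trans (Wm_eq h)

/-- the configuration in `U₄(3)` -/
theorem locW : GI.Loc (Wm wa) (Wm wb) (Wm [12]) (Wm [9, 11]) (Wm [8]) (Wm [7, 10]) := by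
  refine ⟨⟨pow_word (by decide +kernel), conj_word (by decide +kernel),
    (conj_word (v := [8] ++ [7, 10]) (by decide +kernel)).trans (Wm_append _ _),
    (conj_word (v := [8, 8, 8]) (by decide +kernel)).trans (inv_word (by decide +kernel)), ?_⟩,
    pow_word (by decide +kernel), pow_word (by decide +kernel), conj_word (by decide +kernel),
    conj_word (by decide +kernel), conj_word (by decide +kernel), ?_,
    (conj_word (v := wa ++ wa) (by decide +kernel)).trans (inv_word (by decide +kernel)),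
    (conj_word (v := [8, 8, 8]) (by decide +kernel)).trans (inv_word (by decide +kernel)), ?_, ?_⟩
  · rw [← Wm_pw, ← Wm_pw]; exact Wm_eq (by decide +kernel)
  · rw [← Wm_pw]; exact conj_word (by decide +kernel)
  · rw [← Wm_pw, ← Wm_append [12]]; exact conj_word (by decide +kernel)
  · rw [conj_word (g := [12]) (u := [8]) (v := [12, 8, 12]) (by decide +kernel)]; exact conj_word (by decide +kernel)

variable {X : Type} [Group X] [Finite X] {φ : X →* M}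

/-- the squares of the absolute values -/
theorem exists_psi (h : Ext (center X) φ) {m : center X →* ℂˣ} {χ : X → ℂ} (hχ : IsIrrCharacter X χ)
    (ho : Over (center X) m χ) : ∃ Ψ : M → ℝ, (∀ y, Ψ (φ y) = Complex.normSq (χ y)) ∧
      (∀ c g, Ψ (c * g * c⁻¹) = Ψ g) ∧ (∀ g, Ψ g⁻¹ = Ψ g) ∧
      ∑ i ∈ Finset.range 20, ((3265920 / E.c.getD i 0 : ℕ) : ℝ) * Ψ (rep i) = 3265920 := by
  classical
  have := Fintype.ofFinite X
  have := Fintype.ofFinite M
  have hc := isIrr_isCharacter hχ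
  have h1 : ∀ y, Complex.normSq (χ (Function.surjInv h.surj (φ y))) = Complex.normSq (χ y) := fun y => by
    have h2 : Function.surjInv h.surj (φ y) * y⁻¹ ∈ center X :=
      h.mem_iff.2 (by rw [map_mul, map_inv, Function.surjInv_eq h.surj, mul_inv_cancel])
    have h3 := ho ⟨_, h2⟩ y
    have h4 : Complex.normSq (m ⟨_, h2⟩ : ℂ) ^ 3 = 1 := by
      rw [← map_pow, ← Units.val_pow_eq_pow_val, ← map_pow, show (⟨_, h2⟩ : center X) ^ 3 = 1 from
        Subtype.ext (h.cube h2), map_one, Units.val_one, map_one]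
    rw [pow_eq_one_iff_of_nonneg (Complex.normSq_nonneg _) (by norm_num)] at h4
    rw [show ((⟨_, h2⟩ : center X) : X) * y = Function.surjInv h.surj (φ y) from inv_mul_cancel_right _ _] at h3
    rw [h3, map_mul, h4, one_mul]
  have h2 : ∀ c g, Complex.normSq (χ (Function.surjInv h.surj (c * g * c⁻¹))) =
      Complex.normSq (χ (Function.surjInv h.surj g)) := fun c g => by
    obtain ⟨c, rfl⟩ := h.surj c
    obtain ⟨g, rfl⟩ := h.surj g
    rw [← map_inv, ← map_mul, ← map_mul, h1, h1, cls hc rfl]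
  refine ⟨fun g => Complex.normSq (χ (Function.surjInv h.surj g)), h1, h2, fun g => ?_, ?_⟩
  · obtain ⟨g, rfl⟩ := h.surj g
    simp only [← map_inv, h1, isCharacter_apply_inv hc, Complex.normSq_conj]
  · have h3 := classInner_irr_self hχ
    rw [classInner_def, inv_mul_eq_one₀ card_ne_zero_complex] at h3
    simp only [Complex.mul_conj] at h3
    have h4 := H829.GowDesc.sum_comp_surj φ h.surj fun g => (Complex.normSq (χ (Function.surjInv h.surj g)) : ℂ)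
    simp only [h1] at h4
    rw [← h3, h.ker, h.card, h.card_E, tab.sum_eq (f := fun g => (Complex.normSq (χ (Function.surjInv h.surj g)) : ℂ))
      fun g => by
        obtain ⟨c, e⟩ := isConj_iff.1 (tab.isConj_cl g)
        conv_lhs => rw [← e, h2], card_M, Nat.cast_mul, mul_right_inj' (by norm_num)] at h4
    rw [Finset.sum_range]
    exact_mod_cast h4.symm

/-- the elements of order nine -/
theorem nine' (h : Ext (center X) φ) {m : center X →* ℂˣ} {χ : X → ℂ} (hc : IsCharacter X χ)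
    (ho : Over (center X) m χ) {Ψ : M → ℝ} (p1 : ∀ y, Ψ (φ y) = Complex.normSq (χ y))
    (p2 : ∀ c g, Ψ (c * g * c⁻¹) = Ψ g) (p3 : ∀ g, Ψ g⁻¹ = Ψ g) {A : X} (a3 : A ^ 3 = 1) {x c : M} (h3 : x ^ 3 = φ A)
    (h4 : c * x * c⁻¹ = x ^ 4) {d y : ℤ} (h1 : χ 1 = d) (ha : χ A = y) (ha2 : χ (A ^ 2) = y) (d3 : 3 ∣ d) (y3 : 3 ∣ y) :
    ∃ n : ℕ, Ψ x + Ψ (x ^ 8) = 3 * n ∧ (n = 0 → 9 ∣ d - y) := by
  obtain ⟨x, rfl⟩ := h.surj x
  have h5 : x ^ 3 * A⁻¹ ∈ center X := h.mem_iff.2 (by rw [map_mul, map_inv, map_pow, h3, mul_inv_cancel])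
  have h9 : φ x ^ 9 = 1 := by rw [show 9 = 3 * 3 from rfl, pow_mul, h3, ← map_pow, a3, map_one]
  have k : ∀ n, Ψ (φ x ^ (4 * n % 9)) = Ψ (φ x ^ n) := fun n => by
    rw [← pow_eq_pow_mod _ h9, pow_mul, ← h4, _root_.conj_pow, p2]
  have k8 : Ψ (φ x ^ 8) = Ψ (φ x ^ 1) := by
    rw [pow_one, ← p3 (φ x), eq_inv_of_mul_eq_one_left ((pow_succ _ 8).symm.trans h9)]
  obtain ⟨n, hn, h0⟩ := nine hc (x := x) (fun g => h.comm h5 g) (h.cube h5) (ho ⟨_, h5⟩) (by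
    rw [← Units.val_pow_eq_pow_val, ← map_pow, show (⟨_, h5⟩ : center X) ^ 3 = 1 from Subtype.ext (h.cube h5), map_one,
      Units.val_one]) a3 (inv_mul_cancel_right _ _).symm h1 ha ha2 d3 y3 (r := Ψ (φ x ^ 1)) (by
    simp only [List.forall_mem_cons, List.not_mem_nil, false_imp_iff, implies_true, and_true, ← p1, map_pow]
    exact ⟨trivial, (k 5).trans ((k 8).trans k8), k 1, (k 8).trans k8, (k 4).trans (k 1), k8⟩)
  refine ⟨n, ?_, h0⟩
  rw [k8, ← hn, pow_one, two_mul]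

/-- **no value `± 2` at the elements of order eight** -/
theorem no_two (h : Ext (center X) φ) (hp : _root_.commutator X = ⊤) {m : center X →* ℂˣ} (hm : m ≠ 1) {χ : X → ℂ}
    (hχ : IsIrrCharacter X χ) (ho : Over (center X) m χ)
    (hσ : ∀ σ : ℂ ≃+* ℂ, (∀ z : ℂ, z ^ 3 = 1 → σ z = z) → ∀ x, σ (χ x) = χ x) {U : X} (h8 : U ^ 8 = 1)
    (hU : φ U = rep 14) : χ U ≠ 2 ∧ χ U ≠ -2 := by
  obtain ⟨T, ms, hr, hI, hT⟩ := exists_td
  obtain ⟨x, hx, hv⟩ := S2.exists_row h hp ms hr hI hm hχ ho hσ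
  obtain ⟨Ψ, p1, p2, p3, hN⟩ := exists_psi h hχ ho
  have hc := isIrr_isCharacter hχ
  have h6 : 6 ∣ Nat.card X := by rw [h.card_E, card_M]; norm_num
  have val : ∀ {y : X} {n : ℕ} (j : Fin 20), ¬ 3 ∣ n → y ^ n = 1 → tab.cl (φ y) = j → χ y = x (E.rc.getD j 0) :=
    fun j hn hy e => by rw [hv _ fun e => hn (e.trans (orderOf_dvd_of_pow_eq_one hy)), hT, e]
  have ps : ∀ {g : M} (j : Fin 20), tab.cl g = j → Ψ (rep j) = Ψ g := fun j e => by
    obtain ⟨c, rfl⟩ := isConj_iff.1 (tab.cl_eq_iff.1 e)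
    exact (p2 _ _).symm
  have pv : ∀ {y : X} {v : ℤ} (j : Fin 20), tab.cl (φ y) = j → χ y = v → Ψ (rep j) = (v : ℝ) ^ 2 := fun j e e' => by
    rw [ps j e, p1, e', Complex.normSq_intCast, pow_two]
  have p0 : ∀ j : Fin 20, ¬ 3 ∣ E.o.getD j 0 → Ψ (rep j) = (x (E.rc.getD j 0) : ℝ) ^ 2 := fun j hj => by
    obtain ⟨y, e, hy⟩ := h.exists_lift (rep j) hj (by rw [← ord_rep j.2, pow_orderOf_eq_one])
    have e' : tab.cl (φ y) = j := by rw [e]; exact tab.cl_x j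
    exact pv j e' (val j hj hy e')
  obtain ⟨z, hz⟩ := DFunLike.ne_iff.1 hm
  have z3 : ((m z : ℂˣ) : ℂ) ^ 3 = 1 := by
    rw [← Units.val_pow_eq_pow_val, ← map_pow, show z ^ 3 = 1 from Subtype.ext (h.cube z.2), map_one, Units.val_one]
  obtain ⟨A, B, S, T', I, J, L, eA, eB, eS, eI⟩ := locW.lift h
  have t1 : tab.cl (φ 1) = 0 := by rw [map_one]; exact cl_word (w := []) (g := []) (by decide +kernel)
  have v0 := val (n := 1) 0 (by norm_num) (one_pow 1) t1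
  obtain ⟨ya, ya6, yt, yb, yb6, yc, yc6, ⟨a1, a2, a3, a4, a5, a6, a7, a8⟩, C⟩ := L.cong hc h6 (z := z) (ω := m z)
    (fun g => h.comm z.2 g) (h.cube z.2) (ho z)
    (mul_left_cancel₀ (sub_ne_zero.2 (show ((m z : ℂˣ) : ℂ) ≠ 1 from fun e => hz (Units.ext e))) (by linear_combination z3)) v0
    (val (n := 2) 1 (by norm_num) (by rw [← pow_mul, L.q.i4]) (by
      rw [map_pow, eI, ← Wm_pw]; exact cl_word (g := [2, 4, 1, 11]) (by decide +kernel)))
    (val (n := 4) 6 (by norm_num) L.q.i4 (by rw [eI]; exact cl_word (g := [0]) (by decide +kernel)))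
    (val (n := 4) 1 (by norm_num) (by rw [(comm_of L.ik).mul_pow, L.q.i4, L.q'.i4, mul_one]) (by
      rw [L.si, map_mul, map_mul, map_mul, eI, eS, ← Wm_append, ← Wm_append, ← Wm_append]
      exact cl_word (g := [0, 5, 3, 5]) (by decide +kernel)))
  obtain ⟨Cd, hCd⟩ := h.surj (Wm [9])
  obtain ⟨Y, eY, iY, y3⟩ := h.exists_inv (x := rep 5) (c := Wm [9]) ((conj_word (v := pw (rw.getD 5 []) 2)
    (by decide +kernel)).trans (inv_word (by decide +kernel))) hCd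
  obtain ⟨yd, hd⟩ := int6 hc h6 (y := Y) (by
    rw [show 6 = 3 * 2 from rfl, pow_mul, y3 (pow_word (by decide +kernel)), one_pow]) (cls hc iY)
  have ty1 : T.ty 1 = 0 := by rw [← map_one φ, hT, t1]; rfl
  have d3 : 3 ∣ x 0 := ty1 ▸ hx.three
  have d0 : 0 < x 0 := ty1 ▸ hx.pos
  have ya3 : 3 ∣ ya := by
    obtain ⟨k1, e1⟩ := C.e1
    obtain ⟨k2, e2⟩ := C.e2
    obtain ⟨k3, e3⟩ := d3
    have e0 : x (E.rc.getD (0 : Fin 20) 0) = x 0 := rfl
    exact ⟨ya - k1 - 2 * k2 + k3, by linarith⟩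
  obtain ⟨n1, b1, c1⟩ := nine' h hc ho p1 p2 p3 L.a3 (x := Wm [12, 4, 2, 0]) (c := Wm [10, 2, 10, 5, 9])
    (by rw [eA, ← Wm_pw]; exact Wm_eq (by decide +kernel)) (by rw [← Wm_pw]; exact conj_word (by decide +kernel))
    v0 a1 a2 d3 ya3
  obtain ⟨n2, b2, -⟩ := nine' h hc ho p1 p2 p3 L.a3 (x := Wm [7, 1, 9, 3]) (c := Wm [1, 5, 3, 1, 1])
    (by rw [eA, ← Wm_pw]; exact Wm_eq (by decide +kernel)) (by rw [← Wm_pw]; exact conj_word (by decide +kernel))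
    v0 a1 a2 d3 ya3
  rw [← Wm_pw, ← ps 15 (cl_word (g := [5, 9, 2, 10, 2]) (by decide +kernel)),
    ← ps 16 (cl_word (g := [1, 5, 10, 4, 6, 0]) (by decide +kernel))] at b1
  rw [← Wm_pw, ← ps 17 (cl_word (g := [0, 4, 5, 4, 12, 2]) (by decide +kernel)),
    ← ps 18 (cl_word (g := [0, 0, 2, 8, 7, 2]) (by decide +kernel))] at b2
  have r0 : Ψ (rep 0) = (x 0 : ℝ) ^ 2 := p0 0 (by decide)
  have r1 : Ψ (rep 1) = (x 1 : ℝ) ^ 2 := p0 1 (by decide)
  have r6 : Ψ (rep 6) = (x 6 : ℝ) ^ 2 := p0 6 (by decide)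
  have r7 : Ψ (rep 7) = (x 7 : ℝ) ^ 2 := p0 7 (by decide)
  have r8 : Ψ (rep 8) = (x 8 : ℝ) ^ 2 := p0 8 (by decide)
  have r12 : Ψ (rep 12) = (x 12 : ℝ) ^ 2 := p0 12 (by decide)
  have r13 : Ψ (rep 13) = (x 12 : ℝ) ^ 2 := p0 13 (by decide)
  have r14 : Ψ (rep 14) = (x 13 : ℝ) ^ 2 := p0 14 (by decide)
  have r2 : Ψ (rep 2) = (ya : ℝ) ^ 2 := pv 2 (by rw [eA]; exact cl_word (g := [1, 5, 7]) (by decide +kernel)) a1
  have r9 : Ψ (rep 9) = (ya6 : ℝ) ^ 2 := pv 9 (by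
    rw [map_mul, map_pow, eA, eI, ← Wm_pw, ← Wm_append]
    exact cl_word (g := [4, 3, 1, 3, 7]) (by decide +kernel)) a3
  have r19 : Ψ (rep 19) = (yt : ℝ) ^ 2 := pv 19 (by
    rw [map_mul, eA, eI, ← Wm_append]
    exact cl_word (g := [1, 5, 8, 12, 0, 0]) (by decide +kernel)) a4
  have r4 : Ψ (rep 4) = (yb : ℝ) ^ 2 := pv 4 (by
    rw [map_mul, eA, eB, ← Wm_append]
    exact cl_word (g := [0, 3, 10, 9]) (by decide +kernel)) a5
  have r11 : Ψ (rep 11) = (yb6 : ℝ) ^ 2 := pv 11 (by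
    rw [map_mul, map_mul, map_pow, eA, eB, eI, ← Wm_pw, ← Wm_append, ← Wm_append]
    exact cl_word (g := [2, 12, 3, 0, 4]) (by decide +kernel)) a6
  have r3 : Ψ (rep 3) = (yc : ℝ) ^ 2 := pv 3 (by
    rw [map_mul, map_pow, eA, eB, ← Wm_pw, ← Wm_append]
    exact cl_word (g := [1, 11, 12, 8]) (by decide +kernel)) a7
  have r10 : Ψ (rep 10) = (yc6 : ℝ) ^ 2 := pv 10 (by
    rw [map_mul, map_mul, map_pow, map_pow, eA, eB, eI, ← Wm_pw, ← Wm_pw, ← Wm_append, ← Wm_append]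
    exact cl_word (g := [0, 2, 0, 12, 5, 3]) (by decide +kernel)) a8
  have r5 : Ψ (rep 5) = (yd : ℝ) ^ 2 := pv 5 (by rw [eY]; exact tab.cl_x 5) hd
  have u8 : χ U = x 13 := val (n := 8) 14 (by norm_num) h8 (by rw [hU]; exact tab.cl_x 14)
  have q5 : (5 : ℤ) ∣ x 8 - x 0 := hx.pw 8 (by decide) (by decide) 5 (by norm_num)
  have q7 : (7 : ℤ) ∣ x 12 - x 0 := hx.pw 12 (by decide) (by decide) 7 (by norm_num)
  have q8 : (2 : ℤ) ∣ x 13 - x 6 := hx.pw 13 (by decide) (by decide) 2 Nat.prime_two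
  have q4 : (2 : ℤ) ∣ x 6 - x 1 := hx.pw 6 (by decide) (by decide) 2 Nat.prime_two
  have qb : (2 : ℤ) ∣ x 7 - x 1 := hx.pw 7 (by decide) (by decide) 2 Nat.prime_two
  have key : x 13 ^ 2 = 4 → 2 ∣ x 13 → False := fun e1 e2 => by
    refine GN.num (n := n1 + n2) (yd := yd) d0 d3 (dvd_sub_comm.1 q5) (dvd_sub_comm.1 q7)
      ((dvd_iff_dvd_of_dvd_sub q8).1 e2) q4 qb C (fun e => c1 (by omega)) ?_
    have e3 : (x 13 : ℝ) ^ 2 = 4 := by exact_mod_cast e1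
    have b1' : Ψ (rep 15) + Ψ (rep 16) = 3 * n1 := b1
    have b2' : Ψ (rep 17) + Ψ (rep 18) = 3 * n2 := b2
    simp only [Finset.sum_range_succ, Finset.sum_range_zero, E, List.getD_cons_succ, List.getD_cons_zero, r0, r1, r2, r3,
      r4, r5, r6, r7, r8, r9, r10, r11, r12, r13, r14, r19, e3, Nat.reduceDiv, Nat.cast_ofNat, Nat.cast_one] at hN
    have h1 : (1632960 : ℝ) = (x 0 : ℝ) ^ 2 + 933120 * (x 12 : ℝ) ^ 2 + 653184 * (x 8 : ℝ) ^ 2 + 2835 * (x 1 : ℝ) ^ 2 +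
        34020 * (x 6 : ℝ) ^ 2 + 272160 * (yt : ℝ) ^ 2 + 45360 * (ya6 : ℝ) ^ 2 + 90720 * (yb6 : ℝ) ^ 2 +
        90720 * (yc6 : ℝ) ^ 2 + 204120 * (x 7 : ℝ) ^ 2 + 560 * (ya : ℝ) ^ 2 + 3360 * (yb : ℝ) ^ 2 +
        3360 * (yc : ℝ) ^ 2 + 40320 * (yd : ℝ) ^ 2 + 362880 * ((n1 + n2 : ℕ) : ℝ) := by
      push_cast
      linarith
    exact_mod_cast h1
  rw [u8]
  refine ⟨fun e => ?_, fun e => ?_⟩
  · have e' : x 13 = 2 := by exact_mod_cast e
    exact key (by rw [e']; rfl) (by rw [e'])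
  · have e' : x 13 = -2 := by exact_mod_cast e
    exact key (by rw [e']; rfl) (by rw [e']; decide)

end GH

/-- **eight characters of odd degree** -/
theorem h1 : H1 := fun X _ _ φ c l m hl hlm => by
  have h : Ext (center X) φ := ⟨c.surj, c.ker, le_rfl, c.card⟩
  have h2 : orderOf (rep 14) = 8 := ord_rep (by norm_num)
  obtain ⟨U, hU, h8⟩ := h.exists_lift (rep 14) (n := 8) (by norm_num) (by rw [← h2, pow_orderOf_eq_one])
  have h5 : m ≠ 1 := fun e => by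
    have h6 : center X = ⊥ := eq_bot_iff.2 fun z hz => hl z hz (by rw [hlm ⟨z, hz⟩, e]; rfl)
    have h3 := c.card
    rw [h6, card_bot] at h3
    omega
  refine S2.col_count h (a := 3) h8 (fun e => ?_) (fun j hj => ?_) (by rw [hU]; exact tab.card 14) le_rfl hlm
    fun χ hχ ho hσ => GH.no_two h c.perf h5 hχ ho hσ h8 hU
  · rw [← hU, e, orderOf_one] at h2
    omega
  · refine h.isConj_of (m := 8) (n := 8) (by norm_num) (by norm_num) h8
      (by rw [← pow_mul, mul_comm, pow_mul, h8, one_pow]) ?_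
    have h3 : orderOf (φ U ^ j) = 8 := by
      rw [(hj.coprime_dvd_right (orderOf_map_dvd φ U)).symm.orderOf_pow, hU, h2]
    have h4 : ∀ i : Fin 20, E.o.getD i 0 = 8 → i = 14 := by decide
    rw [map_pow]
    have h6 := tab.cl_eq_iff.1 (h4 _ ((ord_rep (tab.cl _).2).symm.trans
      ((TAB.Sm1.order_conj (tab.isConj_cl (φ U ^ j))).trans h3)))
    rwa [show tab.x 14 = φ U from hU.symm] at h6

end Cfsg.Agent.MK.U43
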