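import Cfsg.Agent.MK.U43.Defs
import Cfsg.Agent.TwoF.XL.U43.Syl

/-!
# MK, the triple covers of `U₄(3)`: the interface in the permutation model on `280` points (helper11)

`L 13`, `L 14`, `L 15` are involutions of the types `2₁`, `2₂`, `2₃`; they normalise the Sylow subgroup generated by
`L 6`, .., `L 12`.
-/

set_option autoImplicit false

namespace Cfsg.Agent.MK.U43

open Cfsg Subgroup Cfsg.Agent.MK.T Cfsg.Agent.TwoF.XL.U43

/-- `G` side, all characters -/
def H1 : Prop :=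
  ∀ (X : Type) [Group X] [Finite X] (φ : X →* M), Cv φ →
    ∀ (l : X → ℂ) (m : center X →* ℂˣ), Fa (center X) l → (∀ z : center X, l z = m z) → kk ⊤ (center X) l = 8

/-- `G` side, the characters which are fixed by a lift of the letter `w` -/
def H2 (w c : ℕ) : Prop :=
  ∀ (X : Type) [Group X] [Finite X] (φ : X →* M), Cv φ → ∀ (α : MulAut X) (q : MulAut M), Rp q (L w) →
    (∀ x, φ (α x) = q (φ x)) → (∀ z ∈ center X, α z = z) →
    ∀ (l : X → ℂ) (m : center X →* ℂˣ), Fa (center X) l → (∀ z : center X, l z = m z) → fA l α = c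

/-- the local side, in the simple group -/
def LocM : Prop :=
  QTNorm.SelfN M ∧ ∃ Q : Sylow 2 M, ab (Q : Subgroup M) = 8 ∧ ∀ q : MulAut M,
    (Rp q (L 14) → (∀ x, q x ∈ (Q : Subgroup M) ↔ x ∈ (Q : Subgroup M)) ∧ fN (Q : Subgroup M) q = 8) ∧
    (Rp q (L 15) → (∀ x, q x ∈ (Q : Subgroup M) ↔ x ∈ (Q : Subgroup M)) ∧ fN (Q : Subgroup M) q = 4)

end Cfsg.Agent.MK.U43
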