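import Cfsg.Agent.MK.U43.Loc
import Cfsg.Agent.MK.U43.Mod

/-!
# MK, `U₄(3)`: the local side in the permutation model (helper47)
-/

set_option autoImplicit false
set_option maxRecDepth 100000
set_option maxHeartbeats 400000

namespace Cfsg.Agent.MK.U43

open Cfsg Subgroup Cfsg.Agent.MK.T Cfsg.Agent.MK.S.Pc Cfsg.Agent.MK.S4 Cfsg.Agent.QTNorm Cfsg.Agent.TwoF.XL.U43
open LocP (cU w1 chkF)

namespace LocQ

/-- three involutions -/
def yw (r : ℕ) : List ℕ := ([[12], [10], [8, 11, 12]] : List (List ℕ)).getD r []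

/-- the letters -/
def y (r : ℕ) : M := Wm (yw r)

theorem ev_y : ∀ w, S.Pc.ev y w = Wm (w.flatMap yw)
  | [] => rfl
  | r :: w => by rw [ev_cons, ev_y w, List.flatMap_cons, Wm_append, y]

theorem lt_of (w : List ℕ) : ∀ s ∈ w.flatMap yw, s < 13 := fun s hs => by
  obtain ⟨r, -, h⟩ := List.mem_flatMap.1 hs
  have h1 : ∀ r < 3, ∀ s ∈ yw r, s < 13 := by decide
  by_cases h2 : r < 3
  · exact h1 r h2 s h
  · rw [yw, List.getD_eq_default _ _ (Nat.le_of_not_lt h2)] at h
    cases h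

/-- the test for words -/
def eqv (v w : List ℕ) : Bool := eqB (v.flatMap yw) (w.flatMap yw)

theorem eqv_spec (v w : List ℕ) (h : eqv v w = true) : S.Pc.ev y v = S.Pc.ev y w := by
  rw [ev_y, ev_y, Wm_eq h]

/-- the parts in the commutator subgroup -/
def w2 (k : ℕ) (i : Fin 3) : List ℕ :=
  (([[[5], [6], []], [[5, 6], [6], [5, 6]]] : List (List (List ℕ))).getD k []).getD i []

theorem chkU : ∀ i < 7, chk1 eqv 7 3 cU i = true := by decide +kernel

theorem chkN : ((List.range 128).map fun n => cde ((LocP.nw n).flatMap yw)).Nodup := by decide +kernel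

theorem chkA : ∀ k < 2, ∀ i : Fin 3, inR 3 7 (w2 k i) = true ∧
    eqF ((14 + k) :: yw i) (((w1 k i).map Fin.val ++ cU.ex (w2 k i)).flatMap yw ++ [14 + k]) = true := by
  decide +kernel

theorem chkS : ∀ i : Fin 3, eqv [i, i] [] = true := by decide +kernel

theorem fin : Finite M := Nat.finite_of_card_ne_zero (by rw [card_M]; norm_num)

theorem card_T : 2 ^ 7 ≤ Nat.card (V (cU.el y) 7 0) := by
  have := fin
  have h1 : ∀ n, S.Pc.ev y (LocP.nw n) ∈ V (cU.el y) 7 0 := fun n => by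
    rw [LocP.nw, Cert.ev_ex]
    exact ev_mem fun i hi => mem_V (Nat.zero_le _) (List.mem_range.1 (List.mem_filter.1 hi).1)
  have h2 := Nat.card_le_card_of_injective (fun n : Fin 128 => (⟨_, h1 n⟩ : V (cU.el y) 7 0)) fun a b h => by
    have h3 : S.Pc.ev y (LocP.nw a) = S.Pc.ev y (LocP.nw b) := congrArg Subtype.val h
    rw [ev_y, ev_y] at h3
    exact Fin.ext (List.inj_on_of_nodup_map chkN (List.mem_range.2 a.2) (List.mem_range.2 b.2)
      (cde_eq (by rw [← coe_Wm (lt_of _), ← coe_Wm (lt_of _), h3])))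
  rwa [Nat.card_eq_fintype_card, Fintype.card_fin] at h2

theorem pcU : PC (cU.el y) 7 3 := pc_of_chk eqv_spec (by norm_num) chkU

theorem gn : Gn (V (cU.el y) 7 0) fun i : Fin 3 => y i :=
  have := fin
  { mem := fun i => by
      have h1 : cU.el y i = y i := by fin_cases i <;> exact mul_one _
      exact h1 ▸ mem_V (Nat.zero_le _) (by omega)
    le := V_le fun i _ hi => ev_mem fun r hr => subset_closure ⟨⟨r, LocP.chkS.2 i hi r hr⟩, rfl⟩
    sq := fun i => by
      have h1 := eqv_spec _ _ (chkS i)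
      rwa [ev_cons, ev_cons, ev_nil, mul_one] at h1
    two := IsPGroup.of_card (pcU.card_eq card_T (Nat.zero_le _))
    ge := (pcU.index card_T).ge }

theorem act {k : ℕ} (hk : k < 2) {q : MulAut M} (h : Rp q (L (14 + k))) (i : Fin 3) :
    ∃ c ∈ ⁅V (cU.el y) 7 0, V (cU.el y) 7 0⁆, q (y i) = ((w1 k i).map fun i : Fin 3 => y i).prod * c := by
  have := fin
  have h1 := W_eq (chkA k hk i).2
  have h2 : (y i : Pm) = W (yw i) := coe_Wm fun s hs => lt_of [i] s (by simpa using hs)
  rw [W_cons, W_append, W_single, ← coe_Wm (lt_of _), ← ev_y, ← h2, ← mul_inv_eq_iff_eq_mul, ← h] at h1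
  exact ⟨_, pcU.comm_eq ▸ inR_mem (chkA k hk i).1, by
    rw [Subtype.ext h1, ev_append, Cert.ev_ex, S.Pc.ev, List.map_map]; rfl⟩

end LocQ

open LocQ Cfsg.Agent.SporadicStructure.FieldNine in
/-- **the local side** -/
theorem locM : LocM := by
  have := fin
  have := two_prime
  obtain ⟨e⟩ := iso K9.card_K9'
  have h2 : ¬ 2 ∣ (V (cU.el y) 7 0).index := by
    have h3 := card_mul_index (V (cU.el y) 7 0)
    rw [pcU.card_eq card_T (Nat.zero_le _), card_M] at h3
    omega
  exact ⟨(UFourThree.sn K9 K9.card_K9).congr e, gn.two.toSylow h2, gn.ab_eq, fun q =>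
    ⟨fun h => ⟨gn.stab (act (k := 0) (by norm_num) h), (gn.fN_eq (act (k := 0) (by norm_num) h)).trans
      (chkF 0 (by norm_num))⟩, fun h => ⟨gn.stab (act (k := 1) (by norm_num) h),
        (gn.fN_eq (act (k := 1) (by norm_num) h)).trans (chkF 1 (by norm_num))⟩⟩⟩

end Cfsg.Agent.MK.U43
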