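import Cfsg.Agent.MK.U43.H23
import Cfsg.Agent.MK.U43.LocM
import Cfsg.Agent.MK.S.Congr

/-!
# MK, the triple covers of `U₄(3)`: the assembly (helper11)
-/

set_option autoImplicit false
set_option maxRecDepth 100000
set_option maxHeartbeats 400000

namespace Cfsg.Agent.MK.U43

open Cfsg Subgroup Cfsg.Agent.MK.T Cfsg.Agent.MK.A Cfsg.Agent.TwoF.XL.U43 Cfsg.Agent.SporadicStructure.PermChain
  Cfsg.Agent.HN.PC

section abs

variable {X S : Type} [Group X] [Group S] [Finite X] {φ : X →* S} (h : Cv φ)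
include h

/-- **the preimage of a `2`-group** -/
theorem Cv.fB_loc {T : Subgroup S} (hT : IsPGroup 2 T) {γ : MulAut X} {q : MulAut S} (hγ : ∀ x, φ (γ x) = q (φ x))
    (hz : ∀ z ∈ center X, γ z = z) {l : X → ℂ} {m : center X →* ℂˣ} (hm : ∀ z : center X, l z = m z) :
    fB (T.comap φ) l γ = fN T q := by
  have := two_prime
  have : Finite S := Finite.of_surjective φ h.surj
  let ρ := φ.subgroupComap T
  have hρ : Function.Surjective ρ := φ.subgroupComap_surjective_of_surjective T h.surj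
  have hk : ∀ n : T.comap φ, ρ n = 1 ↔ (n : X) ∈ center X := fun n => by
    rw [← h.ker, MonoidHom.mem_ker, Subtype.ext_iff]
    rfl
  obtain ⟨k, hc⟩ := hT.exists_card_eq
  let Z := (center X).subgroupOf (T.comap φ)
  have hi : Z.index = 2 ^ k := by
    rw [show Z = ρ.ker from Subgroup.ext fun n => (hk n).symm, index_ker, MonoidHom.range_eq_top.2 hρ, card_top, hc]
  have key : ∀ (n : T.comap φ) (j : ℕ) (g : T.comap φ), g⁻¹ * n ^ j * g ∈ Z → g⁻¹ * n ^ j * g = n ^ j := fun n j g hg =>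
    calc _ = g * (g⁻¹ * n ^ j * g) * g⁻¹ := by rw [mem_center_iff.1 (sub_cen _ hg) g, mul_inv_cancel_right]
      _ = _ := by group
  obtain ⟨ν, h1⟩ : ∃ ν : T.comap φ →* ℂˣ, ∀ n : T.comap φ, ∃ e : (n : X) ^ Z.index ∈ center X, ν n = m ⟨_, e⟩ :=
    ⟨MonoidHom.transfer (H := Z) (m.comp ((T.comap φ).subtype.subgroupComap _)), fun n =>
      ⟨MonoidHom.transfer_eq_pow_aux n (key n), MonoidHom.transfer_eq_pow _ n (key n)⟩⟩
  obtain ⟨μ, h2, h3⟩ : ∃ μ : T.comap φ →* ℂˣ, (∀ z : T.comap φ, (z : X) ∈ center X → l z = μ z) ∧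
      ∀ y y' : T.comap φ, (y' : X) = γ y → μ y' = μ y := by
    refine ⟨ν ^ Z.index, fun z hz' => ?_, fun y y' e => ?_⟩
    · obtain ⟨e, h2⟩ := h1 z
      rw [MonoidHom.pow_apply, h2, ← map_pow, hm ⟨z, hz'⟩]
      refine congrArg (fun u => ((m u : ℂˣ) : ℂ)) (Subtype.ext ?_)
      show (z : X) = ((z : X) ^ Z.index) ^ Z.index
      rw [← pow_mul, pow_eq_pow_mod _ (cen_cube h.card hz'), hi, ← mul_pow, Nat.pow_mod, show 2 * 2 % 3 = 1 from rfl,
        one_pow]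
      exact (pow_one _).symm
    · obtain ⟨e1, h2⟩ := h1 y
      obtain ⟨e2, h3⟩ := h1 y'
      rw [MonoidHom.pow_apply, MonoidHom.pow_apply, h2, h3]
      exact congrArg (fun u => m u ^ Z.index) (Subtype.ext (show (y' : X) ^ _ = _ by rw [e, ← map_pow, hz _ e1]))
  refine (Nat.card_eq_of_bijective (fun θ : {ψ : T → ℂ // OI T ψ ∧ ∀ y y' : T, (y' : S) = q y → ψ y' = ψ y} =>
    (⟨fun n => μ n * θ.1 (ρ n), oi_lin_mul μ (oi_comp ρ hρ θ.2.1), fun z hz' => ?_, fun y y' e => ?_⟩ :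
      {ψ : T.comap φ → ℂ // OI _ ψ ∧ Ov _ (center X) l ψ ∧ ∀ y y' : T.comap φ, (y' : X) = γ y → ψ y' = ψ y}))
    ⟨fun a b e => ?_, ?_⟩).symm
  · beta_reduce
    rw [(hk z).2 hz', h2 z hz', map_one, map_one, Units.val_one, one_mul]
  · beta_reduce
    rw [h3 y y' e, θ.2.2 (ρ y) (ρ y') ((congrArg φ e).trans (hγ y))]
  · refine Subtype.ext (funext fun t => ?_)
    obtain ⟨n, rfl⟩ := hρ t
    exact mul_left_cancel₀ (μ n).ne_zero (congrFun (congrArg Subtype.val e) n)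
  · rintro ⟨ψ, hψ, ho, hf⟩
    have h4 := oi_lin_mul μ⁻¹ hψ
    obtain ⟨η, hη, he⟩ := ODD.Red.exists_quot ρ hρ h4.1 fun z hz' => by
      rw [ho z ((hk z).1 hz'), h2 z ((hk z).1 hz')]
      simp
    refine ⟨⟨η, ⟨hη, ?_⟩, fun y y' e => ?_⟩, Subtype.ext (funext fun n => ?_)⟩
    · rw [← deg_comp ρ η, show η ∘ ρ = _ from funext he]
      exact h4.2
    · obtain ⟨y, rfl⟩ := hρ y
      have e1 : γ y ∈ T.comap φ := show φ (γ y) ∈ T from ((hγ y).trans e.symm).symm ▸ y'.2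
      rw [show y' = ρ ⟨_, e1⟩ from Subtype.ext (e.trans (hγ y).symm), he, he, hf y ⟨_, e1⟩ rfl, MonoidHom.inv_apply,
        MonoidHom.inv_apply, h3 y ⟨_, e1⟩ rfl]
    · show (μ n : ℂ) * η (ρ n) = ψ n
      rw [he]
      simp

/-- **self-normalising Sylow subgroups** -/
theorem Cv.sm (hN : QTNorm.SelfN S) (T : Sylow 2 S) {q : MulAut S}
    (hT : ∀ s, q s ∈ (T : Subgroup S) ↔ s ∈ (T : Subgroup S))
    (hA : ∀ α : MulAut X, (∀ z ∈ center X, α z = z) →
      ∃ s, (∀ x, φ (α x) = MulAut.conj s (φ x)) ∨ ∀ x, φ (α x) = MulAut.conj s (q (φ x)))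
    (h1 : ∀ (l : X → ℂ) (m : center X →* ℂˣ), Fa (center X) l → (∀ z : center X, l z = m z) →
      kk ⊤ (center X) l = ab (T : Subgroup S))
    (h2 : ∀ γ : MulAut X, (∀ x, φ (γ x) = q (φ x)) → (∀ z ∈ center X, γ z = z) →
      ∀ (l : X → ℂ) (m : center X →* ℂˣ), Fa (center X) l → (∀ z : center X, l z = m z) →
        fA l γ = fN (T : Subgroup S) q) : Sm X := by
  have := two_prime
  have : Finite S := Finite.of_surjective φ h.surj
  obtain ⟨Q, rfl⟩ := Sylow.mapSurjective_surjective h.surj 2 T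
  have hn : normalizer ((Q : Subgroup X) : Set X) = (Q.mapSurjective h.surj : Subgroup S).comap φ := by
    rw [← le_antisymm (hN _) le_normalizer, Sylow.coe_mapSurjective, ← map_normalizer φ h.surj,
      comap_map_eq_self (h.ker.le.trans (center_le_normalizer _))]
  have k0 : ∀ l, Fa (center X) l → kk ⊤ (center X) l = kk (normalizer ((Q : Subgroup X) : Set X)) (center X) l :=
    fun l hl => kk_eq_of_hom le_rfl le_top (center_le_normalizer _) fun m hm => by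
      rw [h1 l m hl hm, hn, ← fB_one, h.fB_loc (Sylow.isPGroup' _) (q := 1) (fun _ => rfl) (fun _ _ => rfl) hm, fN_one,
        k0_two (Sylow.isPGroup' _)]
  have k1 : ∀ α : MulAut X, (∀ z ∈ center X, α z = z) → ∃ x, α = MulAut.conj x ∨ ∃ γ : MulAut X,
      ((∀ z ∈ center X, γ z = z) ∧ ∀ y, φ (γ y) = q (φ y)) ∧ α = MulAut.conj x * γ := fun α hα => by
    obtain ⟨s, hs⟩ := hA α hα
    obtain ⟨x, rfl⟩ := h.surj s
    have k2 : ∀ y, φ (((MulAut.conj x)⁻¹ * α) y) = (MulAut.conj (φ x))⁻¹ (φ (α y)) := fun y => by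
      rw [MulAut.mul_apply, MulAut.conj_inv_apply, MulAut.conj_inv_apply, map_mul, map_mul, map_inv]
    refine ⟨x, hs.imp (fun e => (inv_mul_eq_one.1 (eq_one_of_ind φ h.ker h.perf fun y => ?_)).symm) fun e =>
      ⟨(MulAut.conj x)⁻¹ * α, ⟨fun z hz => ?_, fun y => ?_⟩, (mul_inv_cancel_left _ _).symm⟩⟩
    · rw [k2, e, MulAut.inv_apply_self]
    · rw [MulAut.mul_apply, hα z hz, MulAut.conj_inv_apply, mul_assoc, ← mem_center_iff.1 hz x, inv_mul_cancel_left]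
    · rw [k2, e, MulAut.inv_apply_self]
  by_cases hγ : ∃ γ : MulAut X, (∀ z ∈ center X, γ z = z) ∧ ∀ y, φ (γ y) = q (φ y)
  swap
  · exact sm_of_inn (fun α hα => (k1 α hα).imp fun x e => e.resolve_right fun ⟨γ, e1, _⟩ => hγ ⟨γ, e1⟩) Q k0
  obtain ⟨γ, hz, hγ⟩ := hγ
  have k3 : ∀ x, γ x ∈ (Q : Subgroup X) ↔ x ∈ (Q : Subgroup X) := stab_of_le fun x hx =>
    (((Q.isPGroup'.map γ.toMonoidHom).inf_normalizer_sylow Q).le ⟨mem_map_of_mem _ hx,
      hn.ge (show φ (γ x) ∈ _ from (hγ x).symm ▸ (hT _).2 (mem_map_of_mem φ hx))⟩).2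
  have k4 : ∀ α : MulAut X, (∀ z ∈ center X, α z = z) → ∃ x, α = MulAut.conj x ∨ α = MulAut.conj x * γ := fun α hα =>
    (k1 α hα).imp fun x e => e.imp id fun ⟨δ, e1, e2⟩ => by
      rw [e2, mul_inv_eq_one.1 (eq_one_of_ind φ h.ker h.perf (α := δ * γ⁻¹) fun y => by
        rw [MulAut.mul_apply, e1.2, ← hγ, MulAut.apply_inv_self])]
  refine sm_of_pair γ k4 Q k3 k0 fun l hl => ?_
  rw [fA_top]
  exact fB_eq_of_hom le_top (center_le_normalizer _) fun m hm => by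
    rw [← fA_top, h2 γ hγ hz l m hl hm, hn, h.fB_loc (Sylow.isPGroup' _) hγ hz hm]

end abs

theorem exists_rp {g : Pm} (hg : g ∈ Pc sP 10) : ∃ q : MulAut M, Rp q g :=
  ⟨M.normalizerMonoidHom ⟨g, P_le hg⟩, fun _ => rfl⟩

/-- **the outer automorphisms** -/
theorem out_top (q : MulAut M) : ∃ (s : M) (t : ℕ), t < 8 ∧ Rp q (s * W (top t)) := by
  let f : Pc sP 10 →* MulAut M := M.normalizerMonoidHom.comp (Subgroup.inclusion P_le)
  have hf : ∀ g, Rp (f g) g := fun g s => rfl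
  have hi : Function.Injective f := fun a b e => Subtype.ext ((hf a).unique (e ▸ hf b))
  have hz : center M = ⊥ := eq_bot_iff.2 fun z hz => Subtype.ext (cent_M fun s hs =>
    congrArg Subtype.val (mem_center_iff.1 hz ⟨s, hs⟩).symm)
  have : (MulAut.conj : M →* MulAut M).range.Normal := ⟨by
    rintro _ ⟨x, rfl⟩ g
    exact ⟨g x, conj_map g x⟩⟩
  have k1 := f.range.index_mul_card
  rw [← Nat.card_congr (MonoidHom.ofInjective hi).toEquiv, card_P, TwoF.XL.U43.card_aut] at k1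
  have k2 := (MulAut.conj : M →* MulAut M).range.index_mul_card
  rw [← Nat.card_congr (MonoidHom.ofInjective (conj_inj hz)).toEquiv, card_M, TwoF.XL.U43.card_aut] at k2
  have k3 := index_dvd_of_le (le_sup_left : (MulAut.conj : M →* MulAut M).range ≤ _ ⊔ f.range)
  have k4 := index_dvd_of_le (le_sup_right : f.range ≤ (MulAut.conj : M →* MulAut M).range ⊔ _)
  rw [show (MulAut.conj : M →* MulAut M).range.index = 8 from
    Nat.eq_of_mul_eq_mul_right (by norm_num) (k2.trans (by norm_num))] at k3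
  rw [show f.range.index = 25515 by omega] at k4
  have k5 := index_eq_one.1 (Nat.eq_one_of_dvd_coprimes (by decide +kernel : Nat.Coprime 8 25515) k3 k4)
  obtain ⟨_, ⟨s, rfl⟩, _, ⟨g, rfl⟩, rfl⟩ := mem_sup_of_normal_left.1 (k5 ▸ mem_top q)
  obtain ⟨e, he, h⟩ := exists_wd le_rfl g.2
  refine ⟨s * Wm (wd 7 e), e / 128, by omega, ?_⟩
  rw [Subgroup.coe_mul, mul_assoc, ← el_eq, el, ← h]
  exact (Rp.conj s).mul (hf g)

section mod

variable {X : Type} [Group X]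

/-- the word `l` lifts to an automorphism which fixes the centre -/
def Fp (φ : X →* M) (l : List ℕ) : Prop :=
  ∃ (α : MulAut X) (q : MulAut M), Rp q (W l) ∧ (∀ x, φ (α x) = q (φ x)) ∧ ∀ z ∈ center X, α z = z

theorem Fp.mul {φ : X →* M} {a b c : List ℕ} (ha : Fp φ a) (hb : Fp φ b) (e : eqF (a ++ b) c = true) : Fp φ c := by
  obtain ⟨α, q, h1, h2, h3⟩ := ha
  obtain ⟨β, r, h4, h5, h6⟩ := hb
  refine ⟨α * β, q * r, ?_, fun x => ?_, fun z hz => ?_⟩
  · rw [← W_eq e, W_append]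
    exact h1.mul h4
  · rw [MulAut.mul_apply, MulAut.mul_apply, h2, h5]
  · rw [MulAut.mul_apply, h6 z hz, h3 z hz]

theorem Fp.conj {φ : X →* M} {a c d : List ℕ} {δ : MulAut M} (hδ : Rp δ (W d)) (ha : Fp φ a)
    (e : eqF (d ++ a) (c ++ d) = true) : Fp (δ.toMonoidHom.comp φ) c := by
  obtain ⟨α, q, h1, h2, h3⟩ := ha
  refine ⟨α, δ * q * δ⁻¹, fun s => ?_, fun x => ?_, h3⟩
  · obtain ⟨s, rfl⟩ := δ.surjective s
    have k := W_eq e
    rw [W_append, W_append] at k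
    rw [MulAut.mul_apply, MulAut.inv_apply_self, (hδ.mul h1) s, k, hδ]
    group
  · show δ (φ (α x)) = (δ * q * δ⁻¹) (δ (φ x))
    rw [MulAut.mul_apply, MulAut.inv_apply_self, MulAut.mul_apply, h2]

theorem Cv.aut {φ : X →* M} (h : Cv φ) (δ : MulAut M) : Cv (δ.toMonoidHom.comp φ) :=
  ⟨δ.surjective.comp h.surj, by
    rw [← h.ker]
    ext x
    simp, h.card, h.perf⟩

theorem chkT : allBelow (fun a => Nat.ble a 1 || allBelow (fun t => Nat.beq t 0 || (Nat.beq t a ||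
    [1, 6, 7].any fun c => Nat.beq t c || (Nat.beq a c || eqF (top a ++ top t) (top c)))) 8) 8 = true := by decide +kernel

theorem chkU : (eqF (top 6 ++ top 6) [13] && eqF (top 7 ++ top 7) [13] && eqF ([15] ++ top 3) (top 2 ++ [15]) &&
    eqF ([14] ++ top 5) (top 4 ++ [14])) = true := by decide +kernel

variable [Finite X] {φ : X →* M} (h : Cv φ)
include h

theorem Cv.not_fp {c : ℕ} (hc : c ∈ [1, 6, 7]) : ¬ Fp φ (top c) := fun e => by
  have k := chkU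
  simp only [Bool.and_eq_true] at k
  have k1 : ¬ Fp φ [13] := fun ⟨α, q, h1, h2, h3⟩ => not_fix13 h (W_single 13 ▸ h1) h2 h3
  simp only [List.mem_cons, List.not_mem_nil, or_false] at hc
  rcases hc with rfl | rfl | rfl
  · exact k1 e
  · exact k1 (e.mul e k.1.1.1)
  · exact k1 (e.mul e k.1.1.2)

theorem Cv.uniq {a t : ℕ} (h1 : 1 < a) (h8 : a < 8) (ha : Fp φ (top a)) (ht : t < 8) (e : Fp φ (top t)) :
    t = 0 ∨ t = a := by
  have k := allBelow_spec _ _ chkT a h8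
  rw [Bool.or_eq_true, Nat.ble_eq] at k
  have k1 := allBelow_spec _ _ (k.resolve_left (by omega)) t ht
  simp only [Bool.or_eq_true, Nat.beq_eq, List.any_eq_true] at k1
  refine k1.imp id fun k1 => k1.resolve_right ?_
  rintro ⟨c, hc, rfl | rfl | k2⟩
  · exact h.not_fp hc e
  · exact h.not_fp hc ha
  · exact h.not_fp hc (ha.mul e k2)

omit [Finite X] in
theorem Cv.out {a : ℕ} (ha : ∀ t < 8, Fp φ (top t) → t = 0 ∨ t = a) {q : MulAut M} (hq : Rp q (W (top a)))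
    (α : MulAut X) (hα : ∀ z ∈ center X, α z = z) :
    ∃ s, (∀ x, φ (α x) = MulAut.conj s (φ x)) ∨ ∀ x, φ (α x) = MulAut.conj s (q (φ x)) := by
  obtain ⟨r, hr⟩ := exists_ind φ h.surj h.ker α
  obtain ⟨s, t, ht, h1⟩ := out_top r
  obtain ⟨x, rfl⟩ := h.surj s
  have h2 : Rp (MulAut.conj (φ x)⁻¹ * r) (W (top t)) := by
    have := (Rp.conj (φ x)⁻¹).mul h1
    rwa [Subgroup.coe_inv, inv_mul_cancel_left] at this
  have h3 : ∀ y, φ (α y) = MulAut.conj (φ x) ((MulAut.conj (φ x)⁻¹ * r) (φ y)) := fun y => by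
    rw [← MulAut.mul_apply, map_inv, mul_inv_cancel_left, hr]
  refine ⟨φ x, (ha t ht ⟨MulAut.conj x⁻¹ * α, _, h2, fun y => ?_, fun z hz => ?_⟩).imp ?_ ?_⟩
  · rw [MulAut.mul_apply, MulAut.mul_apply, MulAut.conj_apply, MulAut.conj_apply, map_mul, map_mul, map_inv, map_inv, hr,
      map_inv]
  · rw [MulAut.mul_apply, hα z hz, MulAut.conj_apply, mem_center_iff.1 hz, mul_inv_cancel_right]
  · rintro rfl y
    rw [h3, h2.ext Rp.one, MulAut.one_apply]
  · rintro rfl y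
    rw [h3, h2.ext hq]

theorem Cv.sm2 (h1 : H1) (h2 : H2 14 8) (ha : ∀ t < 8, Fp φ (top t) → t = 0 ∨ t = 2) : Sm X := by
  obtain ⟨hN, T, h8, hT⟩ := locM
  obtain ⟨q, hq⟩ : ∃ q, Rp q (L 14) := exists_rp (mem_Pc (s := sP) (by norm_num : 8 < 10))
  obtain ⟨k1, k2⟩ := (hT q).1 hq
  exact h.sm hN T k1 (h.out ha ((W_single 14).symm ▸ hq)) (fun l m hl hm => h8 ▸ h1 X φ h l m hl hm)
    fun γ hγ hz l m hl hm => k2 ▸ h2 X φ h γ q hq hγ hz l m hl hm

theorem Cv.sm4 (h1 : H1) (ha : ∀ t < 8, Fp φ (top t) → t = 0 ∨ t = 4) : Sm X := by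
  obtain ⟨hN, T, h8, hT⟩ := locM
  obtain ⟨q, hq⟩ : ∃ q, Rp q (L 15) := exists_rp (mem_Pc (s := sP) (by norm_num : 9 < 10))
  obtain ⟨k1, k2⟩ := (hT q).2 hq
  exact h.sm hN T k1 (h.out ha ((W_single 15).symm ▸ hq)) (fun l m hl hm => h8 ▸ h1 X φ h l m hl hm)
    fun γ hγ hz l m hl hm => k2 ▸ h23 X φ h γ q hq hγ hz l m hl hm

theorem Cv.sm_mod (h1 : H1) (h2 : H2 14 8) : Sm X := by
  have k := chkU
  simp only [Bool.and_eq_true] at k
  by_cases f3 : Fp φ (top 3)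
  · obtain ⟨δ, hδ⟩ : ∃ q, Rp q (L 15) := exists_rp (mem_Pc (s := sP) (by norm_num : 9 < 10))
    exact (h.aut δ).sm2 h1 h2 fun t => (h.aut δ).uniq (by norm_num) (by norm_num)
      (f3.conj ((W_single 15).symm ▸ hδ) k.1.2)
  by_cases f4 : Fp φ (top 4)
  · exact h.sm4 h1 fun t => h.uniq (by norm_num) (by norm_num) f4
  by_cases f5 : Fp φ (top 5)
  · obtain ⟨δ, hδ⟩ : ∃ q, Rp q (L 14) := exists_rp (mem_Pc (s := sP) (by norm_num : 8 < 10))
    exact (h.aut δ).sm4 h1 fun t => (h.aut δ).uniq (by norm_num) (by norm_num)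
      (f5.conj ((W_single 14).symm ▸ hδ) k.2)
  refine h.sm2 h1 h2 fun t ht e => ?_
  interval_cases t
  · exact Or.inl rfl
  · exact absurd e (h.not_fp (by decide))
  · exact Or.inr rfl
  · exact absurd e f3
  · exact absurd e f4
  · exact absurd e f5
  · exact absurd e (h.not_fp (by decide))
  · exact absurd e (h.not_fp (by decide))

end mod

/-- **the triple covers of `U₄(3)`** from the two counts -/
theorem smC_of (h1 : H1) (h2 : H2 14 8) (F : Type) [Field F] [Fintype F] (hF : Fintype.card F = 9) :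
    S.SmC (PSU 4 F 3) := by
  obtain ⟨e⟩ := iso (F := F) hF
  exact S.SmC.congr e fun X _ _ φ k1 k2 k3 k4 _ => Cv.sm_mod ⟨k1, k2, k3, k4⟩ h1 h2

end Cfsg.Agent.MK.U43
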