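import Cfsg.Agent.MK.U43.H23

/-!
# MK, the triple covers of `U₄(3)`: the column of an outer element of order eight of type `2₂` (helper11)
-/

set_option autoImplicit false
set_option maxRecDepth 100000
set_option maxHeartbeats 400000

namespace Cfsg.Agent.MK.U43

section abs

open Cfsg Subgroup Finset Cfsg.Agent.Characters.Core Cfsg.Agent.MK.T Cfsg.Agent.MK.A Cfsg.Agent.J3Type.CharTools
open scoped ComplexConjugate

variable {G : Type} [Group G]

theorem dvd_aux {ι : Type} [DecidableEq ι] (s : Finset ι) (v : ι → ℤ) (h1 : ∑ i ∈ s, v i * v i = 16) (ε : ι → ι)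
    (h2 : ∀ i ∈ s, ε i ∈ s) (h3 : ∀ i, v (ε i) = -v i) (h4 : ∀ i, ε (ε i) = i) :
    8 ∣ (s.filter fun i => Odd (v i)).card := by
  have k1 : ∀ x : ℤ, x * x = (if Odd x then 1 else 0) + 4 * (x * x / 4) := fun x => by
    obtain ⟨y, rfl | rfl⟩ := Int.even_or_odd' x
    · rw [if_neg (Int.not_odd_iff_even.2 (even_two_mul y)), show 2 * y * (2 * y) = 4 * (y * y) by ring]
      omega
    · rw [if_pos (odd_two_mul_add_one y), show (2 * y + 1) * (2 * y + 1) = 4 * (y * y + y) + 1 by ring]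
      omega
  have k2 : ∑ i ∈ s, ((v i * v i / 4 : ℤ) : ZMod 2) = 0 :=
    Finset.sum_involution (fun i _ => ε i) (fun i _ => by rw [h3, neg_mul_neg]; exact CharTwo.add_self_eq_zero _)
      (fun i _ h e => h (by
        have k := h3 i
        rw [e] at k
        rw [show v i = 0 by omega]
        rfl)) h2 fun i _ => h4 i
  rw [← Int.cast_sum, ZMod.intCast_zmod_eq_zero_iff_dvd] at k2
  rw [Finset.sum_congr rfl fun i _ => k1 (v i), Finset.sum_add_distrib, Finset.sum_boole, ← Finset.mul_sum] at h1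
  omega

/-- **the number of the characters of odd degree is a multiple of eight** -/
theorem eight_dvd [Finite G] {Z L : Subgroup G} (hZ : Z ≤ center G) (h3 : Nat.card Z = 3) (hL : L.index = 2) (hZL : Z ≤ L)
    (m : Z →* ℂˣ) {u : G} (hu : u ∉ L) (h8 : u ^ 8 = 1) (k3 : IsConj u (u ^ 3)) (k5 : IsConj u (u ^ 5))
    (hC : Nat.card (centralizer ({u} : Set G)) = 16 * Nat.card Z) :
    8 ∣ Nat.card {χ : G → ℂ // OI G χ ∧ ∀ z : Z, χ z = m z * χ 1} := by
  classical
  have := finite_irr (G := G)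
  have := Fintype.ofFinite (IrrCharacter G)
  have := Fintype.ofFinite Z
  have hv : ∀ χ : IrrCharacter G, ∃ v : ℤ, (χ : G → ℂ) u = v := fun χ =>
    int_of_conj (isIrr_isCharacter χ.2) u fun n hn => by
      have h2 : n % 2 = 1 := by
        obtain ⟨j, -, hj⟩ := (Nat.dvd_prime_pow Nat.prime_two (m := 3)).1 (orderOf_dvd_of_pow_eq_one h8)
        rcases j with _ | j
        · exact absurd (orderOf_eq_one_iff.1 hj ▸ one_mem L) hu
        · rw [hj] at hn
          exact Nat.odd_iff.1 (Nat.coprime_two_right.1 (hn.coprime_dvd_right (dvd_pow_self 2 j.succ_ne_zero)))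
      rw [pow_eq_pow_mod n h8]
      rcases (by omega : n % 8 = 1 ∨ n % 8 = 3 ∨ n % 8 = 5 ∨ n % 8 = 7) with h | h | h | h <;> rw [h]
      · rw [pow_one]
      · exact k3
      · exact k5
      · have k := k3.pow 5
        rw [← pow_mul, pow_eq_pow_mod (3 * 5) h8] at k
        exact k5.trans k
  choose v hv using hv
  have key : ∀ z : Z, IsConj (z * u) u → z = 1 := fun z h => by
    obtain ⟨c, e⟩ := isConj_iff.1 h
    have k : z ^ 3 = 1 := h3 ▸ pow_card_eq_one'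
    have k' : (c * (z * u) * c⁻¹) ^ 8 = 1 := e.symm ▸ h8
    rw [conj_pow, mul_inv_eq_one, mul_eq_left, Commute.mul_pow (mem_center_iff.1 (hZ z.2) u).symm, h8, mul_one] at k'
    rw [← one_mul z, ← show z ^ 8 = 1 from Subtype.ext k', ← pow_succ, show 8 + 1 = 3 * 3 from rfl, pow_mul, k, one_pow,
      show z ^ 8 = 1 from Subtype.ext k']
  have hc : (Nat.card Z : ℂ) ≠ 0 := Nat.cast_ne_zero.2 Nat.card_pos.ne'
  have k1 := rel_orth hZ m u u
  rw [Finset.sum_eq_single (1 : Z) (fun z _ hz => by rw [if_neg fun h => hz (key z h), mul_zero])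
    (fun h => absurd (mem_univ _) h), Subgroup.coe_one, one_mul, if_pos (IsConj.refl u), map_one, inv_one, Units.val_one,
    one_mul, hC, Nat.cast_mul, mul_comm _ (Nat.card Z : ℂ), ← Finset.sum_filter] at k1
  let μ : G →* ℂˣ := MonoidHom.mk' (fun g => if g ∈ L then 1 else -1) fun a b => by
    rw [mul_mem_iff_of_index_two hL]
    by_cases ha : a ∈ L <;> by_cases hb : b ∈ L <;> simp [ha, hb]
  have m1 : ∀ g ∈ L, μ g = 1 := fun g hg => if_pos hg
  have m2 : μ u = -1 := if_neg hu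
  have m3 : ∀ g, (μ g : ℂ) * μ g = 1 := fun g => by
    by_cases hg : g ∈ L
    · rw [m1 g hg, Units.val_one, one_mul]
    · rw [show μ g = -1 from if_neg hg, Units.val_neg, Units.val_one, neg_mul_neg, one_mul]
  have k4 := dvd_aux (univ.filter fun χ : IrrCharacter G => ∀ z : Z, (χ : G → ℂ) z = m z * (χ : G → ℂ) 1) v (by
      have h5 := mul_left_cancel₀ hc k1
      rw [Finset.sum_congr rfl fun χ _ => by rw [hv χ, map_intCast]] at h5
      exact_mod_cast h5) (fun χ => ⟨_, ODD.Red.isIrr_lin_mul μ χ.2⟩)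
    (fun χ hχ => Finset.mem_filter.2 ⟨mem_univ _, fun z => by
      show (μ z : ℂ) * _ = _ * ((μ 1 : ℂ) * _)
      rw [m1 _ (hZL z.2), map_one, Units.val_one, one_mul, one_mul]
      exact (Finset.mem_filter.1 hχ).2 z⟩) (fun χ => by
      apply Int.cast_injective (α := ℂ)
      rw [← hv, Int.cast_neg, ← hv]
      show (μ u : ℂ) * _ = _
      rw [m2, Units.val_neg, Units.val_one, neg_one_mul]) fun χ => Subtype.ext (funext fun g => by
      show (μ g : ℂ) * ((μ g : ℂ) * _) = _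
      rw [← mul_assoc, m3, one_mul])
  rw [Finset.filter_filter, ← Fintype.card_subtype, ← Nat.card_eq_fintype_card] at k4
  refine k4.trans (Eq.dvd (Eq.symm ?_))
  exact Nat.card_congr ⟨fun χ => ⟨⟨χ.1, χ.2.1.1⟩, χ.2.2,
      (par (isIrr_isCharacter χ.2.1.1) (j := 3) h8 (hv ⟨χ.1, χ.2.1.1⟩)).1 χ.2.1.2⟩,
    fun χ => ⟨χ.1.1, ⟨χ.1.2, (par (isIrr_isCharacter χ.1.2) (j := 3) h8 (hv χ.1)).2 χ.2.2⟩, χ.2.1⟩,
    fun _ => rfl, fun _ => rfl⟩

variable {X S : Type} [Group X] [Group S] {φ : X →* S}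

/-- **the number of the fixed characters is a multiple of four** -/
theorem Cv.four_dvd [Finite X] (h : Cv φ) {α : MulAut X} {q : MulAut S} (hα : ∀ x, φ (α x) = q (φ x))
    (hz : ∀ z ∈ center X, α z = z) {t u k k' : S} (h1 : ∀ s, q (q s) = t * s * t⁻¹) (h4 : t ^ 4 = 1) (ht : q t = t)
    (u8 : u ^ 8 = 1) (u4 : u ^ 4 ≠ 1) (hu : q u = u) (hC : ∀ s, q s = s → s ∈ zpowers u) (hk : k = t * q k)
    (hk' : k' = t * t * q k') {l : X → ℂ}
    {m : center X →* ℂˣ} (hm : ∀ z : center X, l z = m z) : 4 ∣ fA l α := by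
  have := two_prime
  obtain ⟨u, rfl, u1⟩ : ∃ x, φ x = u ∧ α x = x := by
    obtain ⟨x, rfl⟩ := h.surj u
    have k1 : (x ^ 9) ^ 8 = 1 := by
      rw [← pow_mul, show 9 * 8 = 8 * 3 * 3 from rfl, pow_mul, pow_mul, cen_cube h.card (z := x ^ 8) (h.ker.le (by
        rw [MonoidHom.mem_ker, map_pow, u8])), one_pow]
    have k2 : φ (x ^ 9) = φ x := by rw [map_pow, pow_succ, u8, one_mul]
    obtain ⟨z, hz', e⟩ := h.cen (x := α (x ^ 9)) (y := x ^ 9) (by rw [hα, k2, hu])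
    have k3 := congrArg α k1
    rw [map_pow, map_one, e, Commute.mul_pow (mem_center_iff.1 hz' _).symm, k1, mul_one] at k3
    refine ⟨x ^ 9, k2, ?_⟩
    rw [e, ← one_mul z, ← k3, ← pow_succ, show 8 + 1 = 3 * 3 from rfl, pow_mul z, cen_cube h.card hz', one_pow, one_mul]
  obtain ⟨t, t4, rfl⟩ := lift_four φ h.surj h.ker h.card h4
  have t1 : α t = t := eq_of_four φ h.ker h.card (by rw [← map_pow, t4, map_one]) t4 (by rw [hα, ht])
  have t2 := eq_one_of_ind φ h.ker h.perf (α := (MulAut.conj t)⁻¹ * (α * α)) fun x => by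
    rw [MulAut.mul_apply, MulAut.conj_inv_apply, map_mul, map_mul, MulAut.mul_apply, hα, hα, h1, map_inv]
    group
  obtain ⟨W, _, _, j, a, hj, hi, ha, hβ, ha2⟩ := exists_two (β := α) (t := t)
    (fun x => MulEquiv.congr_fun (inv_mul_eq_one.1 t2).symm x) t1
  have := normal_of_index_eq_two hi
  have hca : ∀ x, j x * a = a * j x ↔ α x = x := fun x => by
    rw [← hj.eq_iff, hβ, mul_inv_eq_iff_eq_mul, eq_comm]
  have hZ' : (center X).map j ≤ center W := by
    rintro _ ⟨z, hz', rfl⟩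
    refine mem_center_iff.2 fun w => ?_
    by_cases e : w ∈ j.range
    · obtain ⟨x, rfl⟩ := e
      rw [← map_mul, ← map_mul, mem_center_iff.1 hz']
    · obtain ⟨x, e'⟩ := (mul_mem_iff_of_index_two hi).2 (iff_of_false e fun e4 => ha (inv_mem_iff.1 e4))
      rw [← inv_mul_cancel_right w a, ← e', mul_assoc, ← (hca z).2 (hz z hz'), ← mul_assoc, ← mul_assoc, ← map_mul,
        ← map_mul, mem_center_iff.1 hz']
  have h8 : a ^ 8 = 1 := by rw [show 8 = 2 * 4 from rfl, pow_mul, pow_two, ha2, ← map_pow, t4, map_one]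
  have hc : ∀ (n : ℕ) (k : S), k = φ t ^ n * q k → IsConj a (a ^ (2 * n + 1)) := fun n k e => by
    obtain ⟨k, rfl⟩ := h.surj k
    have k0 : k * (t ^ n * α k)⁻¹ ∈ center X := by
      rw [← h.ker, MonoidHom.mem_ker, map_mul, map_inv, map_mul, map_pow, hα, ← e, mul_inv_cancel]
    have k1 : j k * a * (j k)⁻¹ = j (k * (t ^ n * α k)⁻¹) * a ^ (2 * n + 1) := by
      rw [pow_succ, pow_mul, pow_two, ha2, ← mul_assoc, ← map_pow, ← map_mul, ← mem_center_iff.1 k0,
        show t ^ n * (k * (t ^ n * α k)⁻¹) = t ^ n * (k * (α k)⁻¹ * (t ^ n)⁻¹) by group,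
        show k * (α k)⁻¹ = k * (t ^ n * α k)⁻¹ * t ^ n by group, ← mem_center_iff.1 k0,
        show t ^ n * (t ^ n * (k * (t ^ n * α k)⁻¹) * (t ^ n)⁻¹) = t ^ n * (t ^ n * (k * (t ^ n * α k)⁻¹)) * (t ^ n)⁻¹
          by group, mem_center_iff.1 k0, ← mul_assoc (t ^ n), mul_assoc _ (t ^ n), mul_inv_cancel, mul_one,
        mem_center_iff.1 k0, show k * (t ^ n * α k)⁻¹ * t ^ n = k * (α k)⁻¹ by group, map_mul, map_inv, hβ]
      group
    have k2 := congrArg (· ^ 8) k1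
    simp only [conj_pow, h8, mul_one, mul_inv_cancel] at k2
    rw [Commute.mul_pow (mem_center_iff.1 (hZ' (mem_map_of_mem j k0)) _).symm, ← pow_mul, mul_comm _ 8, pow_mul, h8,
      one_pow, mul_one, ← map_pow, eq_comm, map_eq_one_iff j hj] at k2
    have k3 := cen_cube h.card k0
    refine isConj_iff.2 ⟨j k, ?_⟩
    rw [k1, ← pow_one (k * _), ← one_mul (_ ^ 1), ← k2, ← pow_add, show 8 + 1 = 3 * 3 from rfl, pow_mul, k3, one_pow,
      map_one, one_mul]
  let e := equivMapOfInjective (center X) j hj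
  have h6 : Nat.card (centralizer ({a} : Set W)) = 16 * Nat.card ((center X).map j) := by
    let F := α.toMonoidHom.eqLocus (MonoidHom.id X)
    let ρ := φ.comp F.subtype
    have k5 : ρ.range = zpowers (φ u) := le_antisymm (by
      rintro _ ⟨x, rfl⟩
      exact hC _ ((hα x).symm.trans (congrArg φ x.2))) (zpowers_le.2 ⟨⟨u, u1⟩, rfl⟩)
    have k6 : orderOf (φ u) = 2 ^ (2 + 1) := orderOf_eq_prime_pow u4 u8
    have k7 : Nat.card F = 8 * Nat.card (center X) := by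
      rw [← ρ.ker.index_mul_card, index_ker, k5, Nat.card_zpowers, k6, ← h.ker]
      exact congrArg (8 * ·) (Nat.card_congr (subgroupOfEquivOfLe (H := φ.ker) (K := F) fun z hz' =>
        hz z (h.ker.le hz')).toEquiv)
    have k8 : (j.range.subgroupOf (centralizer ({a} : Set W))).index = 2 :=
      index_eq_two_iff.2 ⟨⟨a, mem_centralizer_singleton_iff.2 rfl⟩, fun b => by
        rw [mem_subgroupOf, mem_subgroupOf, Subgroup.coe_mul, mul_mem_iff_of_index_two hi]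
        unfold Xor
        tauto⟩
    rw [← (j.range.subgroupOf (centralizer ({a} : Set W))).index_mul_card, k8, ← Nat.card_congr e.toEquiv,
      show 16 = 2 * 8 from rfl, mul_assoc, ← k7]
    refine congrArg (2 * ·) (Nat.card_eq_of_bijective (fun x : F =>
      (⟨⟨j x, mem_centralizer_singleton_iff.2 ((hca x).2 x.2)⟩, x, rfl⟩ : j.range.subgroupOf _)) ⟨fun x y e' => ?_, ?_⟩).symm
    · exact Subtype.ext (hj (congrArg (fun w : j.range.subgroupOf (centralizer ({a} : Set W)) => (w.1.1 : W)) e'))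
    · rintro ⟨⟨w, hw⟩, x, hx⟩
      have hx' : j x = w := hx
      exact ⟨⟨x, (hca x).1 (hx'.symm ▸ mem_centralizer_singleton_iff.1 hw)⟩, Subtype.ext (Subtype.ext hx')⟩
  have h7 := eight_dvd hZ' ((Nat.card_congr e.toEquiv).symm.trans h.card) hi (map_le_range j _)
    (m.comp e.symm.toMonoidHom) ha h8 (hc 1 k (by rwa [pow_one])) (hc 2 k' (by rwa [pow_two])) h6
  have hp : ∀ χ : W → ℂ, (∀ z : (center X).map j, χ z = (m.comp e.symm.toMonoidHom) z * χ 1) ↔
      ∀ z : center X, χ (j z) = m z * χ 1 :=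
    fun χ => ⟨fun h z => (h (e z)).trans (congrArg (fun y => ((m y : ℂˣ) : ℂ) * χ 1) (e.symm_apply_apply z)), fun h z => by
      obtain ⟨z, rfl⟩ := e.surjective z
      exact (h z).trans (congrArg (fun y => ((m y : ℂˣ) : ℂ) * χ 1) (e.symm_apply_apply z)).symm⟩
  rw [card_two_res hi ha (q := fun θ => ∀ z : center X, θ ⟨j z, z, rfl⟩ = m z * θ 1) fun χ θ h => by
    rw [hp, ← h 1]
    exact forall_congr' fun z => by rw [← h]; rfl] at h7
  refine (Nat.dvd_of_mul_dvd_mul_left two_pos (show 2 * 4 ∣ _ from h7)).trans (Eq.dvd (Eq.symm ?_))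
  refine Eq.trans (Nat.card_congr (Equiv.subtypeEquivRight fun θ => and_congr_right fun _ => and_congr_left fun _ =>
    (⟨fun e z => hm z ▸ e z z.2, fun e z hz => (hm ⟨z, hz⟩).symm ▸ e ⟨z, hz⟩⟩ :
      _ ↔ ∀ z : center X, θ z = m z * θ 1))) ?_
  refine card_congr (MonoidHom.ofInjective hj) fun θ _ => and_congr (forall_congr' fun z => ?_)
    ⟨fun h y => ?_, fun h x => ?_⟩
  · show θ (MonoidHom.ofInjective hj z) = m z * θ (MonoidHom.ofInjective hj 1) ↔ _
    rw [map_one]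
    rfl
  · obtain ⟨x, rfl⟩ := (MonoidHom.ofInjective hj).surjective y
    exact (congrArg θ (Subtype.ext (hβ x).symm)).trans (h x)
  · exact (congrArg θ (Subtype.ext (hβ x))).trans (h _)

end abs

open Cfsg Subgroup Cfsg.Agent.MK.T Cfsg.Agent.TwoF.XL.U43 Cfsg.Agent.SporadicStructure PermChain U43Perm

/-- an outer element of order `8` -/
def gw2 : List ℕ := [5, 12, 3, 4, 3, 5] ++ [14]

/-- its square -/
def tw4 : List ℕ := [9, 3, 0, 2, 12, 1, 1]

/-- a generator of the centraliser -/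
def uw : List ℕ := [11, 10, 2, 9, 1]

/-- powers of a word -/
def pwd (l : List ℕ) (n : ℕ) : List ℕ := (List.replicate n l).flatten

theorem Wm_pwd (l : List ℕ) (n : ℕ) : Wm (pwd l n) = Wm l ^ n := by
  induction n with
  | zero => rfl
  | succ n ih => rw [pow_succ', ← ih, ← Wm_append]; rfl

theorem chkG2 : (eqF (gw2 ++ gw2) tw4 && eqF (gw2 ++ tw4) (tw4 ++ gw2) && eqB (pwd tw4 4) [] && eqB (pwd uw 8) [] &&
    !eqB (pwd uw 4) [] && eqF (gw2 ++ uw) (uw ++ gw2) &&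
    eqF ([8, 0, 10, 11, 3, 1] ++ gw2) (tw4 ++ (gw2 ++ [8, 0, 10, 11, 3, 1])) &&
    eqF ([7, 4, 1, 1, 12, 11] ++ gw2) (tw4 ++ tw4 ++ (gw2 ++ [7, 4, 1, 1, 12, 11])) &&
    Nat.beq (ev 16 gw2 10) 10 && Nat.beq (ev 16 gw2 88) 88 &&
    Nat.beq (ev 13 [10, 12, 5, 10, 11] 10) 88 && Nat.beq (ev 13 [10, 12, 5, 10, 11] 88) 10) = true := by decide +kernel

theorem chkY2 : allBelow (fun x => !Nat.beq (ev 16 gw2 x) x || (Nat.beq x 10 || Nat.beq x 88)) 280 = true := by
  decide +kernel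

theorem chkC2 : [[], [10, 12, 5, 10, 11]].all (fun y => allBelow (fun i => !Nat.beq (ev 13 (y ++ st48.getD i []) (ev 16 gw2 0))
    (ev 16 gw2 (ev 13 (y ++ st48.getD i []) 0)) || (List.range 8).any fun n => eqB (y ++ st48.getD i []) (pwd uw n)) 48) =
    true := by decide +kernel

/-- **the centraliser** -/
theorem cent_gw2 {q : MulAut M} (h : Rp q (W gw2)) (s : M) (hs : q s = s) : s ∈ zpowers (Wm uw) := by
  have k := chkG2
  simp only [Bool.and_eq_true, Nat.beq_eq] at k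
  obtain ⟨⟨⟨⟨-, k1⟩, k2⟩, k3⟩, k4⟩ := k
  have e1 : W gw2 * s = s * W gw2 := by rw [← mul_inv_eq_iff_eq_mul, ← h, hs]
  have e2 : ∀ b, W gw2 b = b → (s : Pm) b = b1 ∨ (s : Pm) b = b2 := fun b hb => by
    have k5 := allBelow_spec _ _ chkY2 ((s : Pm) b) ((s : Pm) b).2
    rw [← W_spec, show W gw2 ((s : Pm) b) = (s : Pm) (W gw2 b) from Equiv.congr_fun e1 b, hb, Nat.beq_refl, Bool.not_true,
      Bool.false_or, Bool.or_eq_true, Nat.beq_eq, Nat.beq_eq] at k5
    exact k5.imp Fin.ext Fin.ext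
  have e3 := e2 b1 (Fin.ext ((W_spec _ b1).trans k1))
  have e4 := e2 b2 (Fin.ext ((W_spec _ b2).trans k2))
  have e5 : (s : Pm) b1 ≠ (s : Pm) b2 := fun e => absurd ((s : Pm).injective e) (by decide)
  obtain ⟨y, hy, k5, k6⟩ : ∃ y ∈ [[], [10, 12, 5, 10, 11]], (s : Pm) b1 = (Wm y : Pm) b1 ∧ (s : Pm) b2 = (Wm y : Pm) b2 := by
    rcases e3 with e3 | e3
    · exact ⟨[], List.mem_cons_self, e3, e4.resolve_left fun e => e5 (e3.trans e.symm)⟩
    · exact ⟨_, List.mem_cons_of_mem _ List.mem_cons_self, e3.trans (Fin.ext ((Wm_spec _ b1).trans k3)).symm,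
        (e4.resolve_right fun e => e5 (e3.trans e.symm)).trans (Fin.ext ((Wm_spec _ b2).trans k4)).symm⟩
  obtain ⟨i, hi, e6⟩ := stab48 (s := (Wm y)⁻¹ * s) (Equiv.Perm.inv_eq_iff_eq.2 k5) (Equiv.Perm.inv_eq_iff_eq.2 k6)
  rw [inv_mul_eq_iff_eq_mul, ← Wm_append] at e6
  have k6 := allBelow_spec _ _ (List.all_eq_true.1 chkC2 y hy) i hi
  have e7 : ev 13 (y ++ st48.getD i []) (ev 16 gw2 0) = ev 16 gw2 (ev 13 (y ++ st48.getD i []) 0) := by
    have a1 := W_spec gw2 b3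
    have a2 := Wm_spec (y ++ st48.getD i []) b3
    have a3 := W_spec gw2 ((s : Pm) b3)
    have a4 := Wm_spec (y ++ st48.getD i []) (W gw2 b3)
    rw [← e6] at a2 a4
    rw [a1] at a4
    rw [a2] at a3
    exact a4.symm.trans ((congrArg Fin.val (Equiv.congr_fun e1 b3)).symm.trans a3)
  rw [e7, Nat.beq_refl, Bool.not_true, Bool.false_or] at k6
  obtain ⟨n, -, k7⟩ := List.any_eq_true.1 k6
  rw [e6, Wm_eq k7, Wm_pwd]
  exact pow_mem (mem_zpowers _) n

/-- **type `2₂`**: the number of the fixed characters is `0`, `4` or `8` -/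
theorem col14 {X : Type} [Group X] [Finite X] {φ : X →* M} (h : Cv φ) {α : MulAut X} {q : MulAut M} (hq : Rp q (L 14))
    (hα : ∀ x, φ (α x) = q (φ x)) (hz : ∀ z ∈ center X, α z = z) {l : X → ℂ} {m : center X →* ℂˣ}
    (hm : ∀ z : center X, l z = m z) : 4 ∣ fA l α := by
  obtain ⟨s, hs⟩ := h.surj (Wm [5, 12, 3, 4, 3, 5])
  have hq' : Rp _ (W gw2) := rp_conj (s := [5, 12, 3, 4, 3, 5]) (W_single 14 ▸ hq) rfl
  have k := chkG2
  simp only [Bool.and_eq_true, Bool.not_eq_true'] at k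
  obtain ⟨⟨⟨⟨⟨⟨⟨⟨⟨⟨⟨k1, k2⟩, k3⟩, k4⟩, k5⟩, k6⟩, k7⟩, k8⟩, -⟩, -⟩, -⟩, -⟩ := k
  rw [← fA_conj_mul s]
  refine h.four_dvd (q := MulAut.conj (Wm [5, 12, 3, 4, 3, 5]) * q) (t := Wm tw4) (u := Wm uw) (fun x => ?_)
    (fun z hc => ?_) (fun s => Subtype.ext ?_) ((Wm_pwd _ _).symm.trans (Wm_eq k3)) (rp_app hq' rfl rfl k2)
    ((Wm_pwd _ _).symm.trans (Wm_eq k4)) (fun e => Wm_ne k5 ((Wm_pwd _ _).trans e)) (rp_app hq' rfl rfl k6)
    (cent_gw2 hq') (rp_rel hq' rfl rfl k7) ((rp_rel hq' rfl rfl k8).trans (by rw [Wm_append])) hm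
  · rw [MulAut.mul_apply, MulAut.mul_apply, MulAut.conj_apply, MulAut.conj_apply, map_mul, map_mul, map_inv, hs, hα]
  · rw [MulAut.mul_apply, hz z hc, MulAut.conj_apply, mem_center_iff.1 hc, mul_inv_cancel_right]
  · rw [hq', hq', Subgroup.coe_mul, Subgroup.coe_mul, Subgroup.coe_inv, coe_inn rfl, ← W_eq k1, W_append]
    group

end Cfsg.Agent.MK.U43
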