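import Cfsg.Agent.MK.U43.Bad
import Cfsg.Agent.MK.U43.Col14
import Cfsg.Agent.MK.C3L.GA

/-!
# MK, the triple covers of `U₄(3)`: the type `2₂` fixes all the characters of odd degree (helper47)

The difference of a character and its image lives on the two classes of order `7`, so at most two characters are moved.
-/

set_option autoImplicit false
set_option maxRecDepth 100000
set_option maxHeartbeats 400000

namespace Cfsg.Agent.MK.U43

open Cfsg Subgroup Cfsg.Agent.MK.T Cfsg.Agent.TwoF.XL.U43 Cfsg.Agent.Characters.Core Cfsg.Agent.H86.TI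
open Cfsg.Agent.H407.TI

namespace BadP

section abs

variable {X S : Type} [Group X] [Group S] [Finite X] {φ : X →* S} {α : MulAut X}

theorem moved_two {P : (X → ℂ) → Prop} (hP : ∀ χ, P χ → IsIrrCharacter X χ) {A : X}
    (hK : ∀ x, ∃ c : ℂ, ∀ χ, P χ → χ x - χ (α x) = c * (χ A - χ (α A))) {χ ψ : X → ℂ} (hχ : P χ) (hψ : P ψ)
    (m1 : ¬ ∀ x, χ (α x) = χ x) (m2 : ¬ ∀ x, ψ (α x) = ψ x) : χ = ψ ∨ χ = ψ ∘ α.toMonoidHom := by
  have := Fintype.ofFinite X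
  by_contra hn
  rw [not_or] at hn
  have h1 : (ψ A - ψ (α A)) • (χ - χ ∘ α.toMonoidHom) = (χ A - χ (α A)) • (ψ - ψ ∘ α.toMonoidHom) := funext fun x => by
    obtain ⟨c, hc⟩ := hK x
    show (ψ A - ψ (α A)) * (χ x - χ (α x)) = (χ A - χ (α A)) * (ψ x - ψ (α x))
    rw [hc χ hχ, hc ψ hψ]
    ring
  have h2 := congrArg (fun f => classInner f χ) h1
  simp only [classInner_smul_left, classInner_sub_left] at h2
  rw [classInner_irr_self (hP χ hχ), classInner_irr_ne (isIrr_comp α.toMonoidHom α.surjective (hP χ hχ))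
    (hP χ hχ) fun e => m1 (congrFun e), classInner_irr_ne (hP ψ hψ) (hP χ hχ) (Ne.symm hn.1),
    classInner_irr_ne (isIrr_comp α.toMonoidHom α.surjective (hP ψ hψ)) (hP χ hχ) (Ne.symm hn.2), sub_zero, sub_zero,
    mul_one, mul_zero] at h2
  refine m2 fun x => ?_
  obtain ⟨c, hc⟩ := hK x
  have h3 := hc ψ hψ
  rw [h2, mul_zero, sub_eq_zero] at h3
  exact h3.symm

theorem card_le_two {P : (X → ℂ) → Prop} (hP : ∀ χ, P χ → IsIrrCharacter X χ) {A : X}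
    (hK : ∀ x, ∃ c : ℂ, ∀ χ, P χ → χ x - χ (α x) = c * (χ A - χ (α A))) {p q : (X → ℂ) → Prop}
    (h : ∀ χ, p χ → q χ → P χ) :
    Nat.card {χ // p χ ∧ q χ ∧ ∀ x, χ (α x) = χ x} ≤ Nat.card {χ // p χ ∧ q χ} ∧
      Nat.card {χ // p χ ∧ q χ} ≤ Nat.card {χ // p χ ∧ q χ ∧ ∀ x, χ (α x) = χ x} + 2 := by
  have f0 : {χ : X → ℂ | IsIrrCharacter X χ}.Finite := Set.finite_coe_iff.1 (finite_irr (G := X))
  have f1 : {χ | p χ ∧ q χ}.Finite := f0.subset fun χ e => hP χ (h χ e.1 e.2)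
  have f2 : {χ | p χ ∧ q χ ∧ ∀ x, χ (α x) = χ x}.Finite := f1.subset fun χ e => ⟨e.1, e.2.1⟩
  refine ⟨Set.ncard_le_ncard (s := {χ | p χ ∧ q χ ∧ ∀ x, χ (α x) = χ x}) (fun χ e => ⟨e.1, e.2.1⟩) f1, ?_⟩
  by_cases h1 : ∃ ψ, P ψ ∧ ¬ ∀ x, ψ (α x) = ψ x
  · obtain ⟨ψ, h1, h2⟩ := h1
    refine (Set.ncard_le_ncard (s := {χ | p χ ∧ q χ}) (t := {χ | p χ ∧ q χ ∧ ∀ x, χ (α x) = χ x} ∪
      {ψ, ψ ∘ α.toMonoidHom}) (fun χ e => ?_) (f2.union (Set.toFinite _))).trans ((Set.ncard_union_le _ _).trans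
        (Nat.add_le_add_left ((Set.ncard_insert_le _ _).trans (by rw [Set.ncard_singleton])) _))
    by_cases h3 : ∀ x, χ (α x) = χ x
    · exact Or.inl ⟨e.1, e.2, h3⟩
    · exact Or.inr (moved_two hP hK (h χ e.1 e.2) h1 h3 h2)
  · exact (Set.ncard_le_ncard (s := {χ | p χ ∧ q χ}) (t := {χ | p χ ∧ q χ ∧ ∀ x, χ (α x) = χ x}) (fun χ e => ⟨e.1, e.2, by
      by_contra h3
      exact h1 ⟨χ, h χ e.1 e.2, h3⟩⟩) f2).trans (Nat.le_add_right _ _)

omit [Finite X] in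
theorem tr (h : Ext (center X) φ) (m : center X →* ℂˣ) {x y : X} (e : IsConj (φ y) (φ x)) :
    ∃ c : ℂ, c ^ 3 = 1 ∧ ∀ χ, IsIrrCharacter X χ ∧ Over (center X) m χ → χ x = c * χ y := by
  obtain ⟨g, e⟩ := isConj_iff.1 e
  obtain ⟨g, rfl⟩ := h.surj g
  have h1 : x * (g * y * g⁻¹)⁻¹ ∈ center X := h.mem_iff.2 (by
    rw [map_mul, map_inv, map_mul, map_mul, map_inv, e, mul_inv_cancel])
  refine ⟨m ⟨_, h1⟩, by
    rw [← Units.val_pow_eq_pow_val, ← map_pow, show (⟨_, h1⟩ : center X) ^ 3 = 1 from Subtype.ext (h.cube h1), map_one,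
      Units.val_one], fun χ hχ => ?_⟩
  rw [← isIrr_isClassFunction hχ.1 y g, ← hχ.2]
  exact congrArg χ (inv_mul_cancel_right _ _).symm

omit [Finite X] in
/-- the differences are proportional -/
theorem prop (h : Ext (center X) φ) {m : center X →* ℂˣ} (hm : ∀ z, m z = 1 → z = 1) (h2 : ∀ x, α (α x) = x)
    (hz : ∀ z ∈ center X, α z = z) {A a b : X} (h3 : φ a * φ b = φ b * φ a) (h4 : a * b ≠ b * a) (x : X)
    (hx : IsConj (φ x) (φ (α x)) ∨ (IsConj (φ A) (φ x) ∨ IsConj (φ (α A)) (φ x)) ∨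
      IsConj (φ b) (φ x) ∨ IsConj (φ (α b)) (φ x)) :
    ∃ c : ℂ, ∀ χ, IsIrrCharacter X χ ∧ Over (center X) m χ → χ x - χ (α x) = c * (χ A - χ (α A)) := by
  have k : ∀ χ, IsIrrCharacter X χ ∧ Over (center X) m χ →
      IsIrrCharacter X (χ ∘ α.toMonoidHom) ∧ Over (center X) m (χ ∘ α.toMonoidHom) := fun χ e =>
    ⟨isIrr_comp α.toMonoidHom α.surjective e.1, fun z g => (congrArg χ ((map_mul α _ _).trans (by rw [hz z z.2]))).trans (e.2 z (α g))⟩
  have k0 : ∀ χ, IsIrrCharacter X χ ∧ Over (center X) m χ → χ b = 0 := fun χ e =>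
    C3L.bad h (isIrr_isCharacter e.1) e.2 hm h3 h4
  rcases hx with e | (e | e) | e | e <;> obtain ⟨c, hc, e⟩ := tr h m e
  · refine ⟨0, fun χ hχ => ?_⟩
    have e1 := e χ hχ
    have e2 : χ (α (α x)) = c * χ (α x) := e _ (k χ hχ)
    rw [h2] at e2
    linear_combination c * e1 + (1 + c * c) * e2 + χ (α x) * hc
  · exact ⟨c, fun χ hχ => by rw [e χ hχ, show χ (α x) = c * χ (α A) from e _ (k χ hχ), mul_sub]⟩
  · exact ⟨-c, fun χ hχ => by
      rw [e χ hχ, show χ (α x) = c * χ (α (α A)) from e _ (k χ hχ), h2]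
      ring⟩
  · exact ⟨0, fun χ hχ => by
      rw [e χ hχ, show χ (α x) = c * χ (α b) from e _ (k χ hχ), k0 χ hχ, show χ (α b) = 0 from k0 _ (k χ hχ), sub_self,
        zero_mul]⟩
  · exact ⟨0, fun χ hχ => by
      rw [e χ hχ, show χ (α x) = c * χ (α (α b)) from e _ (k χ hχ), h2, k0 χ hχ, show χ (α b) = 0 from k0 _ (k χ hχ),
        sub_self, zero_mul]⟩

end abs

/-- conjugating words -/
def cw : List (List ℕ) := [[], [4, 3, 5, 0, 3], [2, 3, 5, 0], [11, 10, 1, 2, 1], [2, 5, 2, 5, 2], [8, 2, 1, 11, 5, 6],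
  [2, 9, 8, 3, 3, 2], [4, 6, 4, 0, 5, 6], [6, 3, 8, 5, 8, 1], [1, 10, 7, 3, 4, 3], [10, 5, 8, 2, 9], [10, 11, 3, 0, 5, 2],
  [5, 2, 3, 0, 4, 5], [9, 4, 1, 3, 2, 4, 8], [4, 5, 8, 3, 11, 0], [12, 1, 8, 5, 9, 1], [12, 2, 4, 5, 8, 0],
  [0, 5, 12, 1, 11, 7, 0], [11, 8, 12], [9, 1, 3, 1, 11, 5]]

/-- the action on the classes -/
def mv (i : ℕ) : ℕ := [0, 1, 2, 3, 4, 5, 6, 7, 8, 9, 10, 11, 13, 12, 14, 16, 15, 17, 18, 19].getD i 0

theorem chkW : ∀ i < 20, (inn (cw.getD i []) && inn (GT.rw.getD i []) && inn (GT.rw.getD (mv i) []) &&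
    eqF (cw.getD i [] ++ [14] ++ GT.rw.getD i []) (GT.rw.getD (mv i) [] ++ (cw.getD i [] ++ [14]))) = true := by
  decide +kernel

theorem chkS : eqF [14, 14] [] = true := by decide +kernel

theorem conj_mv {q : MulAut M} (hq : Rp q (L 14)) {i : ℕ} (hi : i < 20) : IsConj (q (GT.rep i)) (GT.rep (mv i)) := by
  have k := chkW i hi
  simp only [Bool.and_eq_true] at k
  exact isConj_iff.2 ⟨_, rp_app (rp_conj (W_single 14 ▸ hq) k.1.1.1) k.1.1.2 k.1.2 k.2⟩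

theorem sq {q : MulAut M} (hq : Rp q (L 14)) (s : M) : q (q s) = s := by
  have e := W_eq chkS
  rw [W_cons, W_single, W_nil] at e
  have k := (hq.mul hq).ext (e ▸ Rp.one)
  rw [← MulAut.mul_apply, k, MulAut.one_apply]

end BadP

open BadP in
/-- **type `2₂`** -/
theorem h22_of (h1 : H1) : H2 14 8 := fun X _ _ φ h α q hq hα hz l m hl hm => by
  have hE : Ext (center X) φ := ⟨h.surj, h.ker, le_rfl, h.card⟩
  have h2 : ∀ x, α (α x) = x := fun x => by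
    rw [← MulAut.mul_apply, eq_one_of_ind φ h.ker h.perf (α := α * α) fun y => by
      rw [MulAut.mul_apply, hα, hα, sq hq], MulAut.one_apply]
  obtain ⟨a, b, hb, h3, h4⟩ := bad9 h hq hα hz
  obtain ⟨A, hA⟩ := h.surj (GT.rep 12)
  have key := card_le_two (P := fun χ => IsIrrCharacter X χ ∧ Over (center X) m χ) (fun _ e => e.1) (α := α) (A := A)
    (fun x => prop hE (fun z e => Subtype.ext (hl z z.2 (by rw [hm, e, Units.val_one]))) h2 hz h3 h4 x ?_)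
    (p := OI X) (q := fun χ => ∀ z ∈ center X, χ z = l z * χ 1) fun χ e e' => ⟨e.1, (S2.over_iff hm e.1).2 e'⟩
  · have k1 := h1 X φ h l m hl hm
    have k2 := col14 h hq hα hz hm
    rw [kk_top] at k1
    rw [k1] at key
    change fA l α ≤ 8 ∧ 8 ≤ fA l α + 2 at key
    omega
  · obtain ⟨⟨i, hi⟩, e⟩ := GT.tab.cover (φ x)
    have e : IsConj (GT.rep i) (φ x) := e
    have k := conj_mv hq hi
    rw [hα, hα, hα, hA, hb]
    by_cases h5 : mv i = i
    · exact Or.inl (e.symm.trans ((h5 ▸ k).symm.trans (q.toMonoidHom.map_isConj e)))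
    · have h6 : i = 12 ∨ i = 13 ∨ i = 15 ∨ i = 16 := by
        revert h5
        interval_cases i <;> decide
      rcases h6 with rfl | rfl | rfl | rfl
      · exact Or.inr (Or.inl (Or.inl e))
      · exact Or.inr (Or.inl (Or.inr ((conj_mv hq (i := 12) (by norm_num)).trans e)))
      · exact Or.inr (Or.inr (Or.inl e))
      · exact Or.inr (Or.inr (Or.inr ((conj_mv hq (i := 15) (by norm_num)).trans e)))

end Cfsg.Agent.MK.U43
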