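import Cfsg.Agent.MK.U43.Inv
import Cfsg.Agent.MK.U43.GT

/-!
# MK, the triple covers of `U₄(3)`: the classes of order `9` which are moved by the letter `14` (helper47)

If a lift of the letter `14` centralises the centre, the lifts of these elements are conjugate to their multiples by the
centre.
-/

set_option autoImplicit false
set_option maxRecDepth 100000
set_option maxHeartbeats 400000

namespace Cfsg.Agent.MK.U43

open Cfsg Subgroup Cfsg.Agent.MK.T Cfsg.Agent.TwoF.XL.U43 Cfsg.Agent.SporadicStructure.PermChain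
open scoped commutatorElement

namespace BadP

section abs

variable {X S : Type} [Group X] [Group S] {φ : X →* S}

theorem cm_mul {T : Subgroup X} (hT : ∀ a ∈ T, ∀ b ∈ T, a * b = b * a) {b : X} (hb : ∀ r ∈ T, b * r * b⁻¹ ∈ T)
    {r s : X} (hr : r ∈ T) (hs : s ∈ T) : ⁅b, r * s⁆ = ⁅b, r⁆ * ⁅b, s⁆ := by
  have h1 := hT _ (inv_mem hr) _ (mul_mem (hb s hs) (inv_mem hs))
  rw [commutatorElement_def, commutatorElement_def, commutatorElement_def, mul_assoc _ r⁻¹, h1]
  group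

theorem cm_congr (h : Cv φ) {b b' a a' : X} (e1 : φ b = φ b') (e2 : φ a = φ a') : ⁅b, a⁆ = ⁅b', a'⁆ := by
  obtain ⟨z, hz, rfl⟩ := h.cen e1
  obtain ⟨w, hw, rfl⟩ := h.cen e2
  have k : ∀ {c : X}, c ∈ center X → ∀ y, c * y * c⁻¹ = y := fun hc y => by
    rw [← mem_center_iff.1 hc, mul_inv_cancel_right]
  calc ⁅z * b', w * a'⁆ = z * (b' * w * a' * b'⁻¹) * z⁻¹ * a'⁻¹ * w⁻¹ := by rw [commutatorElement_def]; group
    _ = w * ⁅b', a'⁆ * w⁻¹ := by rw [k hz, mem_center_iff.1 hw, commutatorElement_def]; group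
    _ = _ := k hw _

theorem comm_out (h : Cv φ) {β : MulAut X} (hβ : ∀ z ∈ center X, β z = z) {x y : X} (h0 : φ x * φ y = φ y * φ x)
    (h1 : φ (β x) = φ x * φ x) (h2 : φ (β y) = φ y) : x * y = y * x := by
  obtain ⟨c, hc, e⟩ := h.cen (x := x * y) (y := y * x) (by rw [map_mul, map_mul, h0])
  have k := A.det_eq φ h.ker hc e (α := β) (i := 2) (j := 0) (k := 0) (l := 1) (hβ c hc)
    (by rw [h1, pow_zero, mul_one, pow_two]) (by rw [h2, pow_zero, one_mul, pow_one])
  have k' : c = c * c := by simpa only [zero_mul, zero_add, pow_one, mul_one, pow_two] using k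
  rw [e, left_eq_mul.1 k', one_mul]

theorem three_form {a b c : X} (h1 : Commute a b) (h2 : Commute a c) (h3 : Commute b c) (ha : a ^ 3 = 1)
    (hb : b ^ 3 = 1) (hc : c ^ 3 = 1) {x : X} (hx : x ∈ closure ({a, b, c} : Set X)) :
    ∃ i < 3, ∃ j < 3, ∃ k < 3, x = a ^ i * (b ^ j * c ^ k) := by
  have k1 : ∀ n ∈ ({a, b, c} : Set X), ∀ y, (∃ i j k : ℕ, y = a ^ i * (b ^ j * c ^ k)) →
      ∃ i j k : ℕ, n * y = a ^ i * (b ^ j * c ^ k) := by
    rintro n (rfl | rfl | rfl) _ ⟨i, j, k, rfl⟩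
    · exact ⟨i + 1, j, k, by rw [pow_succ', mul_assoc]⟩
    · exact ⟨i, j + 1, k, by rw [← mul_assoc, ← (h1.pow_left i).eq, pow_succ', mul_assoc, mul_assoc]⟩
    · exact ⟨i, j, k + 1, by
        rw [← mul_assoc, ← (h2.pow_left i).eq, mul_assoc, ← mul_assoc n, ← (h3.pow_left j).eq, pow_succ', mul_assoc]⟩
  have k2 : ∃ i j k : ℕ, x = a ^ i * (b ^ j * c ^ k) := by
    induction hx using closure_induction_left with
    | one => exact ⟨0, 0, 0, by simp⟩
    | mul_left n hn y _ hy => exact k1 n hn y hy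
    | inv_mul_cancel n hn y _ hy =>
      have k3 : n ^ 3 = 1 := by rcases hn with rfl | rfl | rfl <;> assumption
      rw [inv_eq_of_mul_eq_one_right ((pow_three n).symm.trans k3), mul_assoc]
      exact k1 n hn _ (k1 n hn y hy)
  obtain ⟨i, j, k, rfl⟩ := k2
  exact ⟨i % 3, Nat.mod_lt _ three_pos, j % 3, Nat.mod_lt _ three_pos, k % 3, Nat.mod_lt _ three_pos, by
    rw [← pow_eq_pow_mod i ha, ← pow_eq_pow_mod j hb, ← pow_eq_pow_mod k hc]⟩

theorem norm_of [Finite S] {A : Set S} {b : X} (hn : ∀ a ∈ A, φ b * a * (φ b)⁻¹ ∈ closure A) :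
    ∀ r ∈ (closure A).comap φ, b * r * b⁻¹ ∈ (closure A).comap φ := fun r hr => by
  rw [mem_comap, map_mul, map_mul, map_inv]
  exact (mem_normalizer_iff.1 (mem_normalizer_fintype (HN.PC.conj_closure hn)) _).1 hr

/-- **the centre lies in the commutator subgroup of a Sylow subgroup** -/
theorem cen_mem [Finite X] (h : Cv φ) {A B : Set S}
    (cA : ∀ a ∈ (closure A).comap φ, ∀ b ∈ (closure A).comap φ, a * b = b * a)
    (cB : ∀ a b : X, φ a ∈ B → φ b ∈ B → a * b = b * a) (h3 : ∀ a ∈ A ∪ B, a ^ 3 = 1)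
    (hn : ∀ b ∈ B, ∀ a ∈ A, b * a * b⁻¹ ∈ closure A)
    (hi : IsPGroup 3 (closure (A ∪ B)) → ¬ 3 ∣ (closure (A ∪ B)).index) {N : Subgroup X} (hN : N ≤ (closure A).comap φ)
    (k2 : ∀ b a, φ b ∈ B → φ a ∈ A → ⁅b, a⁆ ∈ N) : ∃ z ∈ center X, z ≠ 1 ∧ z ∈ N := by
  have : Fact (Nat.Prime 3) := ⟨Nat.prime_three⟩
  have : Finite S := Finite.of_surjective φ h.surj
  have c0 : ∀ {A : Set S}, (∀ a b : X, φ a ∈ A → φ b ∈ A → a * b = b * a) → ∀ a ∈ A, ∀ b ∈ A, a * b = b * a :=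
    fun k a ha b hb => by
      obtain ⟨a, rfl⟩ := h.surj a
      obtain ⟨b, rfl⟩ := h.surj b
      rw [← map_mul, k a b ha hb, map_mul]
  have cA' : ∀ a b : X, φ a ∈ A → φ b ∈ A → a * b = b * a := fun a b ha hb =>
    cA a (subset_closure ha) b (subset_closure hb)
  have n1 : closure B ≤ normalizer (closure A : Set S) :=
    (closure_le _).2 fun b hb => mem_normalizer_fintype (HN.PC.conj_closure (hn b hb))
  have p3 : IsPGroup 3 (closure (A ∪ B)) := by
    rw [Subgroup.closure_union]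
    exact (cls_three (c0 cA') fun a ha => h3 a (Or.inl ha)).to_sup_of_normal_left'
      (cls_three (c0 cB) fun a ha => h3 a (Or.inr ha)) n1
  have k : ∀ {a b : X}, a * b = b * a → ⁅a, b⁆ ∈ N := fun e => by
    rw [commutatorElement_eq_one_iff_mul_comm.2 e]
    exact one_mem N
  have k0 : ∀ b, φ b ∈ B → ∀ r ∈ (closure A).comap φ, ⁅b, r⁆ ∈ N := fun b hb r hr => by
    have m := fun r s => cm_mul cA (norm_of (hn _ hb)) (r := r) (s := s)
    rw [h.comap] at hr m
    induction hr using closure_induction with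
    | mem x hx => exact hx.elim (fun e => k (mem_center_iff.1 e b)) (k2 b x hb)
    | one => exact k (by rw [mul_one, one_mul])
    | mul x y hx hy h1 h2 => exact m x y hx hy ▸ mul_mem h1 h2
    | inv x hx h1 =>
      have e := m x x⁻¹ hx (inv_mem hx)
      rw [mul_inv_cancel, commutatorElement_one_right] at e
      exact eq_inv_of_mul_eq_one_right e.symm ▸ inv_mem h1
  have k1 : {x | x ∈ center X ∨ φ x ∈ A ∪ B} ⊆ normalizer (N : Set X) := by
    rintro g (hg | hg | hg) <;> refine mem_normalizer_fintype fun r hr => ?_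
    · rwa [← mem_center_iff.1 hg, mul_inv_cancel_right]
    · rwa [cA g (subset_closure hg) r (hN hr), mul_inv_cancel_right]
    · have e := mul_mem (k0 g hg r (hN hr)) hr
      rwa [commutatorElement_def, inv_mul_cancel_right] at e
  have k3 := H87.OC.commutator_closure_le k1 k1 (by
    rintro a (ha | ha | ha) b hb
    · exact k (mem_center_iff.1 ha b).symm
    · rcases hb with hb | hb | hb
      · exact k (mem_center_iff.1 hb a)
      · exact k (cA' a b ha hb)
      · rw [← commutatorElement_inv]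
        exact inv_mem (k2 b a hb ha)
    · rcases hb with hb | hb | hb
      · exact k (mem_center_iff.1 hb a)
      · exact k2 a b ha hb
      · exact k (cB a b ha hb))
  rw [← h.comap] at k3
  obtain ⟨z, hz⟩ : ∃ z : center X, z ≠ 1 :=
    have := Finite.one_lt_card_iff_nontrivial.1 (h.card ▸ (by norm_num : 1 < 3))
    exists_ne 1
  have k6 := OddHalf.LongSL.mem_commutator_of_center ((closure (A ∪ B)).comap φ)
    (p3.comap_of_ker_isPGroup φ (h.ker ▸ IsPGroup.of_card (n := 1) h.card))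
    (by rw [index_comap_of_surjective _ h.surj]; exact hi p3)
    (z := z) (show φ z ∈ Subgroup.closure _ by rw [show φ z = 1 from h.ker.ge z.2]; exact one_mem _) z.2 (h.perf ▸ mem_top _)
  rw [← map_subtype_commutator] at k3
  exact ⟨z, z.2, fun e => hz (Subtype.ext e), k3 (mem_map_of_mem _ k6)⟩

/-- **the monomial group** -/
theorem mono [Finite X] (h : Cv φ) {u s t v a b : X} {A B : Set S} (hA : A = {φ u, φ s, φ t, φ v}) (hB : B = {φ a, φ b})
    (cA : ∀ a ∈ (closure A).comap φ, ∀ b ∈ (closure A).comap φ, a * b = b * a) (h3 : ∀ a ∈ A ∪ B, a ^ 3 = 1)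
    (hn : ∀ b ∈ B, ∀ a ∈ A, b * a * b⁻¹ ∈ closure A)
    (hi : IsPGroup 3 (closure (A ∪ B)) → ¬ 3 ∣ (closure (A ∪ B)).index) (ab : a * b = b * a) (au : a * u = u * a)
    (av : a * v = v * a) (bu : b * u = u * b) (bs : b * s = s * b)
    (hd : ∀ i < 3, ∀ j < 3, ∀ k < 3, φ ⁅a, s⁆ ^ i * (φ ⁅a, t⁆ ^ j * φ ⁅b, t⁆ ^ k) = 1 → i = 0 ∧ j = 0 ∧ k = 0) :
    s * v * (t * t * (a * b)) ≠ t * t * (a * b) * (s * v) := fun e => by
  have : Finite S := Finite.of_surjective φ h.surj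
  have ms : s ∈ (closure A).comap φ := subset_closure (by simp [hA])
  have mt : t ∈ (closure A).comap φ := subset_closure (by simp [hA])
  have mv : v ∈ (closure A).comap φ := subset_closure (by simp [hA])
  have na := norm_of (hn (φ a) (by simp [hB]))
  have nb := norm_of (hn (φ b) (by simp [hB]))
  have mc : ∀ {c r : X}, (∀ r ∈ (closure A).comap φ, c * r * c⁻¹ ∈ (closure A).comap φ) → r ∈ (closure A).comap φ →
      ⁅c, r⁆ ∈ (closure A).comap φ ∧ (φ r ^ 3 = 1 → ⁅c, r⁆ ^ 3 = 1) := fun {c r} hc hr =>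
    ⟨mul_mem (hc r hr) (inv_mem hr), fun e => by
      rw [pow_three, ← cm_mul cA hc hr hr, ← cm_mul cA hc hr (mul_mem hr hr), commutatorElement_eq_one_iff_mul_comm]
      exact mem_center_iff.1 (h.ker.le (by rw [MonoidHom.mem_ker, ← pow_three, map_pow, e])) c⟩
  have e1 : ⁅b, v⁆ = ⁅a, s⁆⁻¹ := by
    have e2 : s * v * (a * b) = a * b * (s * v) := by
      rw [← mul_assoc, cA _ (mul_mem ms mv) _ (mul_mem mt mt), mul_assoc, mul_assoc (t * t)] at e
      exact mul_left_cancel e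
    have e3 : a * ⁅b, v⁆ * a⁻¹ = ⁅b, v⁆ := by
      rw [conjugate_commutatorElement, ab, av, mul_inv_cancel_right, mul_inv_cancel_right]
    have e4 := cA _ ms _ (mc nb mv).1
    refine eq_inv_of_mul_eq_one_right (mul_right_cancel (b := s * v * (a * b)) ?_)
    rw [one_mul]
    calc ⁅a, s⁆ * ⁅b, v⁆ * (s * v * (a * b)) = ⁅a, s⁆ * (⁅b, v⁆ * s) * (v * a) * b := by group
      _ = ⁅a, s⁆ * (s * (a * ⁅b, v⁆ * a⁻¹)) * (a * v) * b := by rw [← e4, ← av, e3]
      _ = a * (s * b) * v := by rw [commutatorElement_def, commutatorElement_def]; group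
      _ = _ := by rw [e2, ← bs]; group
  have c1 := mc na ms
  have c2 := mc na mt
  have c3 := mc nb mt
  refine (cen_mem h cA (fun x y hx hy => ?_) h3 hn hi (N := closure {⁅a, s⁆, ⁅a, t⁆, ⁅b, t⁆})
    ((closure_le _).2 ?_) fun x y hx hy => ?_).elim fun z ⟨hz, h1, h2⟩ => ?_
  rotate_right
  · obtain ⟨i, hi, j, hj, k, hk, rfl⟩ := three_form (cA _ c1.1 _ c2.1) (cA _ c1.1 _ c3.1) (cA _ c2.1 _ c3.1)
      (c1.2 (h3 _ (by simp [hA]))) (c2.2 (h3 _ (by simp [hA]))) (c3.2 (h3 _ (by simp [hA]))) h2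
    have h4 := h.ker.ge hz
    rw [MonoidHom.mem_ker, map_mul, map_mul, map_pow, map_pow, map_pow] at h4
    obtain ⟨rfl, rfl, rfl⟩ := hd i hi j hj k hk h4
    exact h1 (by simp)
  · rw [← commutatorElement_eq_one_iff_mul_comm]
    rcases hB ▸ hx with hx | hx <;> rcases hB ▸ hy with hy | hy <;>
      rw [cm_congr h hx hy, commutatorElement_eq_one_iff_mul_comm]
    · exact ab
    · exact ab.symm
  · rintro _ (rfl | rfl | rfl)
    · exact c1.1
    · exact c2.1
    · exact c3.1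
  · have k : ∀ {a b : X} {N : Subgroup X}, a * b = b * a → ⁅a, b⁆ ∈ N := fun e => by
      rw [commutatorElement_eq_one_iff_mul_comm.2 e]
      exact one_mem _
    rcases hB ▸ hx with hx | hx <;> rcases hA ▸ hy with hy | hy | hy | hy <;> rw [cm_congr h hx hy]
    · exact k au
    · exact subset_closure (by simp)
    · exact subset_closure (by simp)
    · exact k av
    · exact k bu
    · exact k bs
    · exact subset_closure (by simp)
    · exact e1 ▸ inv_mem (subset_closure (by simp))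

end abs

/-- a basis of `3⁴` -/
def aw : List (List ℕ) := [[8, 5, 8, 5, 8, 5], [7, 5, 7, 5, 8, 2], [6, 5, 5, 6, 5, 5], [12, 6, 2, 3, 2, 9]]

/-- two products of two reflections -/
def bw : List (List ℕ) := [[4, 3, 3, 3], [6, 3, 4, 3, 4]]

/-- three commutators -/
def nw3 : List (List ℕ) := [[7, 6, 1, 3, 9, 5, 1], [8, 0, 2, 10, 6, 0, 0], [2, 5, 8, 3, 4, 5, 0]]

/-- the reflection `w ++ [14]` squares `a` and centralises `b` -/
def outB (w a b : List ℕ) : Bool :=
  (inn w && (inn a && (inn (a ++ a) && inn b))) && (eqB (a ++ b) (b ++ a) &&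
    (eqF (w ++ [14] ++ a) (a ++ a ++ (w ++ [14])) && eqF (w ++ [14] ++ b) (b ++ (w ++ [14]))))

theorem chk3 : (aw ++ bw).all (fun a => eqB (a ++ a ++ a) []) = true := by decide +kernel
theorem chkT : aw.all (fun a => [13, 19, 8, 27].any fun e => eqB a (pws rw4 e)) = true := by decide +kernel
theorem chkN : bw.all (fun b => aw.all fun a => [1, 5, 16, 27, 3, 38, 28].any fun e =>
    eqB (b ++ a) (pws aw e ++ b)) = true := by decide +kernel
theorem chkD : dst (fun e => 280 * (280 * ev 13 (pws (aw ++ bw) e) 10 + ev 13 (pws (aw ++ bw) e) 88) +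
    ev 13 (pws (aw ++ bw) e) 0) 244 0 = true := by decide +kernel
theorem chkO : (outB [8, 9, 7] (bw.getD 0 []) (bw.getD 1 []) && outB [8, 9, 7] (bw.getD 0 []) (aw.getD 0 []) &&
    outB [9, 8, 7] (aw.getD 3 []) (bw.getD 0 []) && outB [12, 3, 11, 2, 8, 6] (bw.getD 1 []) (aw.getD 0 []) &&
    outB [6, 3, 12, 8, 2, 11] (aw.getD 1 []) (bw.getD 1 [])) = true := by decide +kernel
theorem chkC : (eqB (bw.getD 0 [] ++ aw.getD 1 []) (nw3.getD 0 [] ++ (aw.getD 1 [] ++ bw.getD 0 [])) &&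
    eqB (bw.getD 0 [] ++ aw.getD 2 []) (nw3.getD 1 [] ++ (aw.getD 2 [] ++ bw.getD 0 [])) &&
    eqB (bw.getD 1 [] ++ aw.getD 2 []) (nw3.getD 2 [] ++ (aw.getD 2 [] ++ bw.getD 1 []))) = true := by decide +kernel
theorem chkI : ∀ i < 3, ∀ j < 3, ∀ k < 3, eqB (GT.pw (nw3.getD 0 []) i ++ (GT.pw (nw3.getD 1 []) j ++
    GT.pw (nw3.getD 2 []) k)) [] = Nat.beq (i + j + k) 0 := by decide +kernel

/-- the element of order `9` -/
def xw : List ℕ := aw.getD 2 [] ++ aw.getD 2 [] ++ (bw.getD 0 [] ++ bw.getD 1 [])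

theorem chkX : (eqB (aw.getD 1 [] ++ aw.getD 3 [] ++ xw) (xw ++ (aw.getD 1 [] ++ aw.getD 3 [])) &&
    eqB ([4, 4, 0, 0, 3, 2] ++ xw) (GT.rw.getD 15 [] ++ [4, 4, 0, 0, 3, 2])) = true := by decide +kernel

variable {X : Type} [Group X] {φ : X →* M} (h : Cv φ) {α : MulAut X} {q : MulAut M} (hq : Rp q (L 14))
  (hα : ∀ x, φ (α x) = q (φ x)) (hz : ∀ z ∈ center X, α z = z)
include h hq hα hz

theorem out_comm {w a b : List ℕ} (e : outB w a b = true) {x y : X} (hx : φ x = Wm a) (hy : φ y = Wm b) :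
    x * y = y * x := by
  simp only [outB, Bool.and_eq_true] at e
  obtain ⟨s, hs⟩ := h.surj (Wm w)
  have hq' := rp_conj (s := w) (W_single 14 ▸ hq) e.1.1
  have k : ∀ x, φ ((MulAut.conj s * α) x) = (MulAut.conj (Wm w) * q) (φ x) := fun x => by
    rw [MulAut.mul_apply, MulAut.mul_apply, MulAut.conj_apply, MulAut.conj_apply, map_mul, map_mul, map_inv, hs, hα]
  refine comm_out h (β := MulAut.conj s * α) (fun z hc => ?_) ?_ ?_ ?_
  · rw [MulAut.mul_apply, hz z hc, MulAut.conj_apply, mem_center_iff.1 hc, mul_inv_cancel_right]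
  · rw [hx, hy, ← Wm_append, ← Wm_append, Wm_eq e.2.1]
  · rw [k, hx, rp_app hq' e.1.2.1 e.1.2.2.1 e.2.2.1, Wm_append]
  · rw [k, hy, rp_app hq' e.1.2.2.2 e.1.2.2.2 e.2.2.2]

end BadP

open BadP in
/-- **the lifts of the class `15` are moved in their cosets** -/
theorem bad9 {X : Type} [Group X] [Finite X] {φ : X →* M} (h : Cv φ) {α : MulAut X} {q : MulAut M} (hq : Rp q (L 14))
    (hα : ∀ x, φ (α x) = q (φ x)) (hz : ∀ z ∈ center X, α z = z) :
    ∃ a b : X, φ b = GT.rep 15 ∧ φ a * φ b = φ b * φ a ∧ a * b ≠ b * a := by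
  obtain ⟨u, hu⟩ := h.surj (Wm (aw.getD 0 []))
  obtain ⟨s, hs⟩ := h.surj (Wm (aw.getD 1 []))
  obtain ⟨t, ht⟩ := h.surj (Wm (aw.getD 2 []))
  obtain ⟨v, hv⟩ := h.surj (Wm (aw.getD 3 []))
  obtain ⟨a, ha⟩ := h.surj (Wm (bw.getD 0 []))
  obtain ⟨b, hb⟩ := h.surj (Wm (bw.getD 1 []))
  obtain ⟨g, hg⟩ := h.surj (Wm [4, 4, 0, 0, 3, 2])
  have kO := chkO
  have kC := chkC
  have kX := chkX
  simp only [Bool.and_eq_true] at kO kC kX
  have k3 : ∀ a ∈ aw ++ bw, Wm a ^ 3 = 1 := fun a ha => by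
    have k := List.all_eq_true.1 BadP.chk3 a ha
    rw [eqB_iff, Wm_append, Wm_append] at k
    rw [pow_succ, pow_two]
    exact k
  have cA : ∀ a ∈ (closure (Wm '' {w | w ∈ rw4})).comap φ, ∀ b ∈ (closure (Wm '' {w | w ∈ rw4})).comap φ,
      a * b = b * a := by
    rw [h.comap]
    refine cls_comm ?_
    rintro a (ha | ha) b hb
    · exact (mem_center_iff.1 ha b).symm
    · exact hb.elim (fun hb => mem_center_iff.1 hb a) fun hb => h.comm (prs_spec chkA _ ha _ hb)
  have hT : closure (Wm '' {w | w ∈ aw}) ≤ closure (Wm '' {w | w ∈ rw4}) := (closure_le _).2 (by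
    rintro _ ⟨a, ha, rfl⟩
    obtain ⟨e, -, k⟩ := List.any_eq_true.1 (List.all_eq_true.1 chkT a ha)
    exact Wm_eq k ▸ pws_mem _ _ fun w hw => subset_closure ⟨w, hw, rfl⟩)
  have kc : ∀ {x y : X} {a b n : List ℕ}, φ x = Wm a → φ y = Wm b → eqB (a ++ b) (n ++ (b ++ a)) = true →
      φ ⁅x, y⁆ = Wm n := fun hx hy e => by
    rw [eqB_iff, Wm_append, Wm_append, Wm_append] at e
    rw [map_commutatorElement, hx, hy, commutatorElement_def, e]
    group
  have hx : φ (t * t * (a * b)) = Wm xw := by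
    rw [xw, Wm_append, Wm_append, Wm_append, map_mul, map_mul, map_mul, ht, ha, hb]
  have key := mono h (u := u) (s := s) (t := t) (v := v) (a := a) (b := b) (A := Wm '' {w | w ∈ aw})
    (B := Wm '' {w | w ∈ bw}) (by rw [hu, hs, ht, hv]; ext; simp [aw, eq_comm]) (by rw [ha, hb]; ext; simp [bw, eq_comm])
    (fun x hx y hy => cA x (comap_mono hT hx) y (comap_mono hT hy)) ?_ ?_ (fun p3 h3 => ?_)
    (out_comm h hq hα hz kO.1.1.1.1 ha hb) (out_comm h hq hα hz kO.1.1.1.2 ha hu)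
    (out_comm h hq hα hz kO.1.1.2 hv ha).symm (out_comm h hq hα hz kO.1.2 hb hu)
    (out_comm h hq hα hz kO.2 hs hb).symm fun i hi j hj k hk e =>
      (fun e : i + j + k = 0 => by omega) (Nat.eq_of_beq_eq_true ((chkI i hi j hj k hk).symm.trans (eqB_iff.2 ?_)))
  · refine ⟨g * (s * v) * g⁻¹, g * (t * t * (a * b)) * g⁻¹, ?_, ?_, fun e => key ?_⟩
    · rw [map_mul, map_mul, map_inv, hg, hx, GT.conj_word kX.2, GT.rep]
    · have e := Wm_eq kX.1
      rw [Wm_append, Wm_append, Wm_append, Wm_append, ← hs, ← hv, ← hx, ← map_mul, ← map_mul, ← map_mul] at e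
      rw [← map_mul, ← map_mul, conj_mul, conj_mul, map_mul _ _ g⁻¹, map_mul _ g, e, ← map_mul, ← map_mul]
    · rw [conj_mul, conj_mul] at e
      exact mul_left_cancel (mul_right_cancel e)
  · rintro _ (⟨a, ha, rfl⟩ | ⟨a, ha, rfl⟩)
    · exact k3 a (List.mem_append_left _ ha)
    · exact k3 a (List.mem_append_right _ ha)
  · rintro _ ⟨b, hb, rfl⟩ _ ⟨a, ha, rfl⟩
    obtain ⟨e, -, k⟩ := List.any_eq_true.1 (List.all_eq_true.1 (List.all_eq_true.1 BadP.chkN b hb) a ha)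
    rw [eqB_iff, Wm_append, Wm_append] at k
    rw [k, mul_inv_cancel_right]
    exact pws_mem _ _ fun w hw => subset_closure ⟨w, hw, rfl⟩
  · obtain ⟨n, hn⟩ := p3.exists_card_eq
    have k1 : 244 ≤ 3 ^ n := by
      rw [← hn, ← Nat.card_fin 244]
      refine Nat.card_le_card_of_injective (fun e : Fin 244 => ⟨Wm (pws (aw ++ bw) e), pws_mem _ _ fun w hw =>
        subset_closure ((List.mem_append.1 hw).imp (fun k => ⟨w, k, rfl⟩) fun k => ⟨w, k, rfl⟩)⟩) fun e f k => ?_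
      have k2 := eqB_iff.2 (congrArg Subtype.val k)
      simp only [eqB, Bool.and_eq_true, Nat.beq_eq] at k2
      exact Fin.ext ((dst_spec _ _ _ BadP.chkD).2 e e.2 f f.2 (by rw [k2.1, k2.2.1, k2.2.2]))
    have k2 : 3 ^ 5 < 3 ^ n := lt_of_lt_of_le (by norm_num) k1
    have k4 := mul_dvd_mul h3 (pow_dvd_pow 3 ((Nat.pow_lt_pow_iff_right (by norm_num)).1 k2) : 3 ^ 6 ∣ 3 ^ n)
    rw [← hn, index_mul_card, card_M] at k4
    norm_num at k4
  · rwa [kc ha hs kC.1.1, kc ha ht kC.1.2, kc hb ht kC.2, ← GT.Wm_pw, ← GT.Wm_pw, ← GT.Wm_pw, ← Wm_append,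
      ← Wm_append] at e

end Cfsg.Agent.MK.U43
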