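import Cfsg.Agent.MK.U43.Defs
import Cfsg.Agent.MK.A.Cov
import Cfsg.Agent.H699.OverLin

/-!
# MK, the triple covers of `U₄(3)`: an outer element of order eight with a small centraliser (helper11)

* `exists_odd_cen` : over each character of a central subgroup of odd order there is a character of odd degree;
* `eight` : eight characters of odd degree; `Cv.fA_four` : four fixed characters.
-/

set_option autoImplicit false
set_option maxHeartbeats 400000

namespace Cfsg.Agent.MK.U43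

open Cfsg Subgroup Finset Cfsg.Agent.Characters.Core Cfsg.Agent.MK.T Cfsg.Agent.MK.A Cfsg.Agent.J3Type.CharTools
open scoped ComplexConjugate

variable {G : Type} [Group G]

theorem exists_odd_cen [Finite G] {Z : Subgroup G} (hZ : Z ≤ center G) (ho : Odd (Nat.card Z)) (m : Z →* ℂˣ) :
    ∃ χ : IrrCharacter G, Odd (charDegree (χ : G → ℂ)) ∧ ∀ z : Z, (χ : G → ℂ) z = m z * (χ : G → ℂ) 1 := by
  have := two_prime
  have := Fintype.ofFinite G
  have := Fintype.ofFinite Z
  have : Z.Normal := ⟨fun n hn g => by rwa [mem_center_iff.1 (hZ hn), mul_inv_cancel_right]⟩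
  obtain ⟨χ, h1, h2⟩ := H699.OverLin.exists_over_inv (p := 2) Z ho.not_two_dvd_nat default
    ⟨_, Characters.Linear.isIrrCharacter_hom m⟩ fun s _ g g' e => by
      rw [show g' = g from Subtype.ext (by rw [e, mem_center_iff.1 (hZ g.2), mul_inv_cancel_right])]
  obtain ⟨c, hc, -⟩ := CharactersDeep.Extraspecial.exists_central_hom χ.2
  have h3 : ∀ z : Z, (χ : G → ℂ) z = (χ : G → ℂ) 1 * (c.comp (inclusion hZ) z : ℂ) := fun z => by
    rw [MonoidHom.comp_apply, ← hc 1, one_mul]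
    rfl
  refine ⟨χ, Nat.odd_iff.2 (Nat.two_dvd_ne_zero.1 h1), fun z => ?_⟩
  by_contra h4
  refine h2 ?_
  rw [show (fun n : Z => (χ : G → ℂ) n) = (χ : G → ℂ) 1 • fun n => (c.comp (inclusion hZ) n : ℂ) from funext h3,
    classInner_smul_left, classInner_irr_ne (Characters.Linear.isIrrCharacter_hom _)
      (Characters.Linear.isIrrCharacter_hom m) fun e => h4 (by rw [h3, congrFun e z, mul_comm]), mul_zero]

theorem eight_aux {ι : Type} [DecidableEq ι] (s : Finset ι) (v : ι → ℤ) (h1 : ∑ i ∈ s, v i * v i = 8)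
    (h2 : ∀ i ∈ s, ∃ j ∈ s, v j = -v i) (h0 : ∃ i ∈ s, Odd (v i)) : (s.filter fun i => Odd (v i)).card = 8 := by
  have h3 : ∀ i ∈ s, v i * v i ≤ 1 := fun i hi => by
    by_contra h
    obtain ⟨j, hj, e⟩ := h2 i hi
    obtain ⟨k, hk, c, hc⟩ := h0
    have h4 : 2 ≤ v i ∨ v i ≤ -2 := by
      by_contra h5
      rcases (by omega : v i = -1 ∨ v i = 0 ∨ v i = 1) with h6 | h6 | h6 <;> rw [h6] at h <;> omega
    have h5 : i ≠ j := fun e' => by
      rw [← e'] at e
      omega
    have h6 : ∀ t ⊆ s, ∑ i ∈ t, v i * v i ≤ 8 := fun t ht =>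
      h1 ▸ Finset.sum_le_sum_of_subset_of_nonneg ht fun _ _ _ => mul_self_nonneg _
    have h7 := h6 {i, j} (Finset.insert_subset hi (Finset.singleton_subset_iff.2 hj))
    rw [Finset.sum_pair h5, e] at h7
    have h8 : v i = 2 ∨ v i = -2 := by
      rcases h4 with h4 | h4
      · exact Or.inl (le_antisymm (by nlinarith) h4)
      · exact Or.inr (le_antisymm h4 (by nlinarith))
    have h9 := h6 {k, i, j} (Finset.insert_subset hk (Finset.insert_subset hi (Finset.singleton_subset_iff.2 hj)))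
    rw [Finset.sum_insert (by
      rw [Finset.mem_insert, Finset.mem_singleton]
      rintro (rfl | rfl) <;> omega), Finset.sum_pair h5, e] at h9
    have h10 : 0 < v k * v k := mul_self_pos.2 (by omega)
    rcases h8 with h8 | h8 <;> rw [h8] at h9 <;> omega
  rw [Finset.sum_congr rfl (g := fun i => if Odd (v i) then 1 else 0), Finset.sum_boole] at h1
  · exact_mod_cast h1
  · intro i hi
    have h4 := h3 i hi
    have h5 : -1 ≤ v i := by nlinarith
    have h6 : v i ≤ 1 := by nlinarith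
    generalize v i = x at h5 h6
    interval_cases x <;> decide

/-- **eight characters of odd degree** -/
theorem eight [Finite G] {Z L : Subgroup G} (hZ : Z ≤ center G) (h3 : Nat.card Z = 3) (hL : L.index = 2) (hZL : Z ≤ L)
    (m : Z →* ℂˣ) {u : G} (hu : u ∉ L) (h8 : u ^ 8 = 1) (k3 : IsConj u (u ^ 3)) (k5 : IsConj u (u ^ 5))
    (hC : Nat.card (centralizer ({u} : Set G)) = 8 * Nat.card Z) :
    Nat.card {χ : G → ℂ // OI G χ ∧ ∀ z : Z, χ z = m z * χ 1} = 8 := by
  classical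
  have := finite_irr (G := G)
  have := Fintype.ofFinite (IrrCharacter G)
  have := Fintype.ofFinite Z
  have hv : ∀ χ : IrrCharacter G, ∃ v : ℤ, (χ : G → ℂ) u = v := fun χ =>
    int_of_conj (isIrr_isCharacter χ.2) u fun n hn => by
      have h2 : n % 2 = 1 := by
        obtain ⟨j, -, hj⟩ := (Nat.dvd_prime_pow Nat.prime_two (m := 3)).1 (orderOf_dvd_of_pow_eq_one h8)
        rcases j with _ | j
        · exact absurd (orderOf_eq_one_iff.1 hj ▸ one_mem L) hu
        · rw [hj] at hn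
          exact Nat.odd_iff.1 (Nat.coprime_two_right.1 (hn.coprime_dvd_right (dvd_pow_self 2 j.succ_ne_zero)))
      rw [pow_eq_pow_mod n h8]
      rcases (by omega : n % 8 = 1 ∨ n % 8 = 3 ∨ n % 8 = 5 ∨ n % 8 = 7) with h | h | h | h <;> rw [h]
      · rw [pow_one]
      · exact k3
      · exact k5
      · have k := k3.pow 5
        rw [← pow_mul, pow_eq_pow_mod (3 * 5) h8] at k
        exact k5.trans k
  choose v hv using hv
  have key : ∀ z : Z, IsConj (z * u) u → z = 1 := fun z h => by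
    obtain ⟨c, e⟩ := isConj_iff.1 h
    have k : z ^ 3 = 1 := h3 ▸ pow_card_eq_one'
    have k' : (c * (z * u) * c⁻¹) ^ 8 = 1 := e.symm ▸ h8
    rw [conj_pow, mul_inv_eq_one, mul_eq_left, Commute.mul_pow (mem_center_iff.1 (hZ z.2) u).symm, h8, mul_one] at k'
    rw [← one_mul z, ← show z ^ 8 = 1 from Subtype.ext k', ← pow_succ, show 8 + 1 = 3 * 3 from rfl, pow_mul, k, one_pow,
      show z ^ 8 = 1 from Subtype.ext k']
  have hc : (Nat.card Z : ℂ) ≠ 0 := Nat.cast_ne_zero.2 Nat.card_pos.ne'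
  have k1 := rel_orth hZ m u u
  rw [Finset.sum_eq_single (1 : Z) (fun z _ hz => by rw [if_neg fun h => hz (key z h), mul_zero])
    (fun h => absurd (mem_univ _) h), Subgroup.coe_one, one_mul, if_pos (IsConj.refl u), map_one, inv_one, Units.val_one,
    one_mul, hC, Nat.cast_mul, mul_comm _ (Nat.card Z : ℂ), ← Finset.sum_filter] at k1
  let μ : G →* ℂˣ := MonoidHom.mk' (fun g => if g ∈ L then 1 else -1) fun a b => by
    rw [mul_mem_iff_of_index_two hL]
    by_cases ha : a ∈ L <;> by_cases hb : b ∈ L <;> simp [ha, hb]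
  have m1 : ∀ g ∈ L, μ g = 1 := fun g hg => if_pos hg
  have m2 : μ u = -1 := if_neg hu
  have k4 := eight_aux (univ.filter fun χ : IrrCharacter G => ∀ z : Z, (χ : G → ℂ) z = m z * (χ : G → ℂ) 1) v (by
      have h5 := mul_left_cancel₀ hc k1
      rw [Finset.sum_congr rfl fun χ _ => by rw [hv χ, map_intCast]] at h5
      exact_mod_cast h5)
    (fun χ hχ => ⟨⟨_, ODD.Red.isIrr_lin_mul μ χ.2⟩, Finset.mem_filter.2 ⟨mem_univ _, fun z => by
      show (μ z : ℂ) * _ = _ * ((μ 1 : ℂ) * _)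
      rw [m1 _ (hZL z.2), map_one, Units.val_one, one_mul, one_mul]
      exact (Finset.mem_filter.1 hχ).2 z⟩, by
      apply Int.cast_injective (α := ℂ)
      rw [← hv, Int.cast_neg, ← hv]
      show (μ u : ℂ) * _ = _
      rw [m2, Units.val_neg, Units.val_one, neg_one_mul]⟩) (by
      obtain ⟨χ, e1, e2⟩ := exists_odd_cen hZ (by rw [h3]; decide) m
      exact ⟨χ, Finset.mem_filter.2 ⟨mem_univ _, e2⟩, (par (isIrr_isCharacter χ.2) (j := 3) h8 (hv χ)).1 e1⟩)
  rw [Finset.filter_filter, ← Fintype.card_subtype, ← Nat.card_eq_fintype_card] at k4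
  rw [← k4]
  exact Nat.card_congr ⟨fun χ => ⟨⟨χ.1, χ.2.1.1⟩, χ.2.2,
      (par (isIrr_isCharacter χ.2.1.1) (j := 3) h8 (hv ⟨χ.1, χ.2.1.1⟩)).1 χ.2.1.2⟩,
    fun χ => ⟨χ.1.1, ⟨χ.1.2, (par (isIrr_isCharacter χ.1.2) (j := 3) h8 (hv χ.1)).2 χ.2.2⟩, χ.2.1⟩,
    fun _ => rfl, fun _ => rfl⟩

variable {X S : Type} [Group X] [Group S] {φ : X →* S}

/-- **four fixed characters** -/
theorem Cv.fA_four [Finite X] (h : Cv φ) {α : MulAut X} {q : MulAut S} (hα : ∀ x, φ (α x) = q (φ x))
    (hz : ∀ z ∈ center X, α z = z) {t k k' : S} (h1 : ∀ s, q (q s) = t * s * t⁻¹) (h4 : t ^ 4 = 1) (h2 : t ^ 2 ≠ 1)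
    (ht : q t = t) (hC : ∀ s, q s = s → s ∈ zpowers t) (hk : k = t * q k) (hk' : k' = t * t * q k') {l : X → ℂ}
    {m : center X →* ℂˣ} (hm : ∀ z : center X, l z = m z) : fA l α = 4 := by
  have := two_prime
  obtain ⟨t, t4, rfl⟩ := lift_four φ h.surj h.ker h.card h4
  have t1 : α t = t := eq_of_four φ h.ker h.card (by rw [← map_pow, t4, map_one]) t4 (by rw [hα, ht])
  have t2 := eq_one_of_ind φ h.ker h.perf (α := (MulAut.conj t)⁻¹ * (α * α)) fun x => by
    rw [MulAut.mul_apply, MulAut.conj_inv_apply, map_mul, map_mul, MulAut.mul_apply, hα, hα, h1, map_inv]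
    group
  obtain ⟨W, _, _, j, a, hj, hi, ha, hβ, ha2⟩ := exists_two (β := α) (t := t)
    (fun x => MulEquiv.congr_fun (inv_mul_eq_one.1 t2).symm x) t1
  have := normal_of_index_eq_two hi
  have hca : ∀ x, j x * a = a * j x ↔ α x = x := fun x => by
    rw [← hj.eq_iff, hβ, mul_inv_eq_iff_eq_mul, eq_comm]
  have hZ' : (center X).map j ≤ center W := by
    rintro _ ⟨z, hz', rfl⟩
    refine mem_center_iff.2 fun w => ?_
    by_cases e : w ∈ j.range
    · obtain ⟨x, rfl⟩ := e
      rw [← map_mul, ← map_mul, mem_center_iff.1 hz']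
    · obtain ⟨x, e'⟩ := (mul_mem_iff_of_index_two hi).2 (iff_of_false e fun e4 => ha (inv_mem_iff.1 e4))
      rw [← inv_mul_cancel_right w a, ← e', mul_assoc, ← (hca z).2 (hz z hz'), ← mul_assoc, ← mul_assoc, ← map_mul,
        ← map_mul, mem_center_iff.1 hz']
  have h8 : a ^ 8 = 1 := by rw [show 8 = 2 * 4 from rfl, pow_mul, pow_two, ha2, ← map_pow, t4, map_one]
  have hc : ∀ (n : ℕ) (k : S), k = φ t ^ n * q k → IsConj a (a ^ (2 * n + 1)) := fun n k e => by
    obtain ⟨k, rfl⟩ := h.surj k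
    have k0 : k * (t ^ n * α k)⁻¹ ∈ center X := by
      rw [← h.ker, MonoidHom.mem_ker, map_mul, map_inv, map_mul, map_pow, hα, ← e, mul_inv_cancel]
    have k1 : j k * a * (j k)⁻¹ = j (k * (t ^ n * α k)⁻¹) * a ^ (2 * n + 1) := by
      rw [pow_succ, pow_mul, pow_two, ha2, ← mul_assoc, ← map_pow, ← map_mul, ← mem_center_iff.1 k0,
        show t ^ n * (k * (t ^ n * α k)⁻¹) = t ^ n * (k * (α k)⁻¹ * (t ^ n)⁻¹) by group,
        show k * (α k)⁻¹ = k * (t ^ n * α k)⁻¹ * t ^ n by group, ← mem_center_iff.1 k0,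
        show t ^ n * (t ^ n * (k * (t ^ n * α k)⁻¹) * (t ^ n)⁻¹) = t ^ n * (t ^ n * (k * (t ^ n * α k)⁻¹)) * (t ^ n)⁻¹
          by group, mem_center_iff.1 k0, ← mul_assoc (t ^ n), mul_assoc _ (t ^ n), mul_inv_cancel, mul_one,
        mem_center_iff.1 k0, show k * (t ^ n * α k)⁻¹ * t ^ n = k * (α k)⁻¹ by group, map_mul, map_inv, hβ]
      group
    have k2 := congrArg (· ^ 8) k1
    simp only [conj_pow, h8, mul_one, mul_inv_cancel] at k2
    rw [Commute.mul_pow (mem_center_iff.1 (hZ' (mem_map_of_mem j k0)) _).symm, ← pow_mul, mul_comm _ 8, pow_mul, h8,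
      one_pow, mul_one, ← map_pow, eq_comm, map_eq_one_iff j hj] at k2
    have k3 := cen_cube h.card k0
    refine isConj_iff.2 ⟨j k, ?_⟩
    rw [k1, ← pow_one (k * _), ← one_mul (_ ^ 1), ← k2, ← pow_add, show 8 + 1 = 3 * 3 from rfl, pow_mul, k3, one_pow,
      map_one, one_mul]
  let e := equivMapOfInjective (center X) j hj
  have h6 : Nat.card (centralizer ({a} : Set W)) = 8 * Nat.card ((center X).map j) := by
    let F := α.toMonoidHom.eqLocus (MonoidHom.id X)
    let ρ := φ.comp F.subtype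
    have k5 : ρ.range = zpowers (φ t) := le_antisymm (by
      rintro _ ⟨x, rfl⟩
      exact hC _ ((hα x).symm.trans (congrArg φ x.2))) (zpowers_le.2 ⟨⟨t, t1⟩, rfl⟩)
    have k6 : orderOf (φ t) = 2 ^ (1 + 1) := orderOf_eq_prime_pow h2 h4
    have k7 : Nat.card F = 4 * Nat.card (center X) := by
      rw [← ρ.ker.index_mul_card, index_ker, k5, Nat.card_zpowers, k6, ← h.ker]
      exact congrArg (4 * ·) (Nat.card_congr (subgroupOfEquivOfLe (H := φ.ker) (K := F) fun z hz' =>
        hz z (h.ker.le hz')).toEquiv)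
    have k8 : (j.range.subgroupOf (centralizer ({a} : Set W))).index = 2 :=
      index_eq_two_iff.2 ⟨⟨a, mem_centralizer_singleton_iff.2 rfl⟩, fun b => by
        rw [mem_subgroupOf, mem_subgroupOf, Subgroup.coe_mul, mul_mem_iff_of_index_two hi]
        unfold Xor
        tauto⟩
    rw [← (j.range.subgroupOf (centralizer ({a} : Set W))).index_mul_card, k8, ← Nat.card_congr e.toEquiv,
      show 8 = 2 * 4 from rfl, mul_assoc, ← k7]
    refine congrArg (2 * ·) (Nat.card_eq_of_bijective (fun x : F =>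
      (⟨⟨j x, mem_centralizer_singleton_iff.2 ((hca x).2 x.2)⟩, x, rfl⟩ : j.range.subgroupOf _)) ⟨fun x y e' => ?_, ?_⟩).symm
    · exact Subtype.ext (hj (congrArg (fun w : j.range.subgroupOf (centralizer ({a} : Set W)) => (w.1.1 : W)) e'))
    · rintro ⟨⟨w, hw⟩, x, hx⟩
      have hx' : j x = w := hx
      exact ⟨⟨x, (hca x).1 (hx'.symm ▸ mem_centralizer_singleton_iff.1 hw)⟩, Subtype.ext (Subtype.ext hx')⟩
  have h7 := eight hZ' ((Nat.card_congr e.toEquiv).symm.trans h.card) hi (map_le_range j _)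
    (m.comp e.symm.toMonoidHom) ha h8 (hc 1 k (by rwa [pow_one])) (hc 2 k' (by rwa [pow_two])) h6
  have hp : ∀ χ : W → ℂ, (∀ z : (center X).map j, χ z = (m.comp e.symm.toMonoidHom) z * χ 1) ↔
      ∀ z : center X, χ (j z) = m z * χ 1 :=
    fun χ => ⟨fun h z => (h (e z)).trans (congrArg (fun y => ((m y : ℂˣ) : ℂ) * χ 1) (e.symm_apply_apply z)), fun h z => by
      obtain ⟨z, rfl⟩ := e.surjective z
      exact (h z).trans (congrArg (fun y => ((m y : ℂˣ) : ℂ) * χ 1) (e.symm_apply_apply z)).symm⟩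
  rw [card_two_res hi ha (q := fun θ => ∀ z : center X, θ ⟨j z, z, rfl⟩ = m z * θ 1) fun χ θ h => by
    rw [hp, ← h 1]
    exact forall_congr' fun z => by rw [← h]; rfl] at h7
  refine Nat.eq_of_mul_eq_mul_left two_pos (Eq.trans ?_ h7)
  congr 1
  refine Eq.trans (Nat.card_congr (Equiv.subtypeEquivRight fun θ => and_congr_right fun _ => and_congr_left fun _ =>
    (⟨fun e z => hm z ▸ e z z.2, fun e z hz => (hm ⟨z, hz⟩).symm ▸ e ⟨z, hz⟩⟩ :
      _ ↔ ∀ z : center X, θ z = m z * θ 1))) ?_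
  refine card_congr (MonoidHom.ofInjective hj) fun θ _ => and_congr (forall_congr' fun z => ?_)
    ⟨fun h y => ?_, fun h x => ?_⟩
  · show θ (MonoidHom.ofInjective hj z) = m z * θ (MonoidHom.ofInjective hj 1) ↔ _
    rw [map_one]
    rfl
  · obtain ⟨x, rfl⟩ := (MonoidHom.ofInjective hj).surjective y
    exact (congrArg θ (Subtype.ext (hβ x).symm)).trans (h x)
  · exact (congrArg θ (Subtype.ext (hβ x))).trans (h _)

end Cfsg.Agent.MK.U43
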