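import Cfsg.Agent.MK.U43.GH
import Cfsg.Agent.MK.U43.B22
import Cfsg.Agent.MK.U43.Asm

/-!
# MK, the row of the triple covers of `U₄(3)`
-/

set_option autoImplicit false

namespace Cfsg.Agent.MK.U43

/-- **the triple covers of `U₄(3)`** -/
theorem u43 (F : Type) [Field F] [Fintype F] (hF : Fintype.card F = 9) : S.SmC (Cfsg.PSU 4 F 3) :=
  smC_of h1 (h22_of h1) F hF

end Cfsg.Agent.MK.U43
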