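import Cfsg.Agent.MK.U43.Inv
import Cfsg.Agent.MK.U43.Eight

/-!
# MK, the triple covers of `U₄(3)`: the characters which are fixed by an automorphism of type `2₃` (helper11)
-/

set_option autoImplicit false
set_option maxRecDepth 100000
set_option maxHeartbeats 400000

namespace Cfsg.Agent.MK.U43

open Cfsg Subgroup Cfsg.Agent.MK.T Cfsg.Agent.TwoF.XL.U43 Cfsg.Agent.SporadicStructure PermChain U43Perm

/-- the stabiliser of the points `10` and `88` -/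
def st48 : List (List ℕ) :=
  [[], [5, 1, 5, 9, 6, 0, 2], [0, 11, 8, 5, 1, 9], [8, 0, 10, 11, 3, 1], [2, 4, 5, 10, 9, 8, 4], [12, 3, 12, 3, 12, 0],
  [10, 11, 9, 6, 3, 2, 0], [11, 5, 9, 8, 1, 4], [2, 4, 1, 3, 9, 5, 1], [3, 2, 4, 10, 4, 2, 0], [1, 10, 12, 5, 9],
  [9, 5, 5, 12, 10, 0], [0, 12, 11, 9, 0, 4], [5, 4, 0, 10, 2, 5], [1, 3, 2, 10, 12, 6, 4], [2, 0, 3, 9, 1, 6, 0],
  [7, 3, 5, 5, 7, 4, 0], [9, 0, 0, 11, 8, 5], [9, 3, 0, 2, 12, 1, 1], [7, 6, 1, 8, 0, 8], [5, 1, 10, 5, 0, 6],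
  [1, 9, 4, 11, 0, 5], [11, 10, 3, 5, 3, 7, 1], [12, 5, 2, 10, 1], [12, 1, 12, 5, 1, 2], [2, 5, 12, 0, 7, 2],
  [4, 12, 5, 3, 7, 10, 0], [4, 0, 2, 11, 0, 6, 0], [10, 12, 11, 4, 9, 0, 2], [12, 4, 5, 12, 1, 12], [6, 1, 5, 1, 9, 5],
  [4, 0, 8, 2, 8, 0], [3, 8, 9, 0, 8, 0, 0], [12, 4, 11, 12, 8, 5], [7, 4, 1, 1, 12, 11], [3, 4, 5, 9, 11, 6, 0],
  [10, 2, 11, 12, 3, 12, 1], [10, 0, 6, 1, 11, 5, 0], [5, 12, 5, 3, 11, 5, 0], [2, 5, 0, 5, 11, 0, 0],
  [7, 10, 1, 5, 12, 10], [0, 10, 11, 5, 2, 5, 0], [8, 5, 3, 1, 7, 6, 0], [0, 12, 2, 4, 2, 3, 0], [4, 2, 12, 4, 5, 1],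
  [1, 5, 0, 7, 4, 12], [7, 3, 3, 2, 8], [0, 10, 2, 5, 5, 12]]

theorem chkS1 : allBelow (fun i => Nat.beq (ev 13 (st48.getD i []) 10) 10 && Nat.beq (ev 13 (st48.getD i []) 88) 88)
    48 = true := by decide +kernel

theorem chkS2 : dst (fun i => ev 13 (st48.getD i []) 0) 48 0 = true := by decide +kernel

/-- **the stabiliser of two points** -/
theorem stab48 {s : M} (h1 : (s : Pm) b1 = b1) (h2 : (s : Pm) b2 = b2) : ∃ i < 48, s = Wm (st48.getD i []) := by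
  set S1 : Subgroup Pm := M ⊓ MulAction.stabilizer Pm b1 with hS1
  set S2 : Subgroup Pm := S1 ⊓ MulAction.stabilizer Pm b2 with hS2
  have k1 : K1 ≤ S1 := fun k hk => ⟨K1_le hk, K1_fix k hk⟩
  have c0 : 280 * Nat.card S1 ≤ Nat.card M :=
    card_step_mask (w := 9) M b1 S1 inf_le_left (fun g hg => hg.2) [tabA, tabB] (by
      intro u hu
      simp only [List.mem_cons, List.not_mem_nil, or_false] at hu
      rcases hu with rfl | rfl
      · exact ⟨gen 0, gen_mem 0 (Or.inl rfl), gen_spec 0 (Or.inl rfl)⟩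
      · exact ⟨gen 1, gen_mem 1 (Or.inr rfl), gen_spec 1 (Or.inr rfl)⟩) 8 mask0 280 orb0 card0
  have c1 : 243 * Nat.card S2 ≤ Nat.card S1 :=
    card_step_mask (w := 9) S1 b2 S2 inf_le_left (fun g hg => hg.2) [tabT, tabR1, tabR2] (by
      intro u hu
      simp only [List.mem_cons, List.not_mem_nil, or_false] at hu
      rcases hu with rfl | rfl | rfl
      · exact ⟨t, k1 (Subgroup.subset_closure (by simp)), t_spec⟩
      · exact ⟨r1, k1 (Subgroup.subset_closure (by simp)), r1_spec⟩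
      · exact ⟨r2, k1 (Subgroup.subset_closure (by simp)), r2_spec⟩) 5 mask1 243 orb1 card1
  have c3 := card_M
  have k2 : ∀ i : Fin 48, (Wm (st48.getD i []) : Pm) ∈ S2 := fun i => by
    have k := allBelow_spec _ _ chkS1 i i.2
    rw [Bool.and_eq_true, Nat.beq_eq, Nat.beq_eq] at k
    exact ⟨⟨(Wm _).2, Fin.ext ((Wm_spec _ b1).trans k.1)⟩, Fin.ext ((Wm_spec _ b2).trans k.2)⟩
  have k3 : Function.Injective fun i : Fin 48 => (⟨_, k2 i⟩ : S2) := fun i j e =>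
    Fin.ext ((dst_spec _ _ _ chkS2).2 i i.2 j j.2 ((Wm_spec _ b3).symm.trans
      ((congrArg (fun g : S2 => ((g : Pm) b3 : ℕ)) e).trans (Wm_spec _ b3))))
  have k4 := Nat.card_le_card_of_injective _ k3
  obtain ⟨i, e⟩ := ((Nat.bijective_iff_injective_and_card _).2 ⟨k3, le_antisymm k4 (by
    rw [Nat.card_fin]; omega)⟩).2 ⟨s, ⟨s.2, h1⟩, h2⟩
  exact ⟨i, i.2, Subtype.ext (congrArg Subtype.val e).symm⟩

/-- an outer element of order `8` -/
def gw : List ℕ := [3, 11, 4, 12, 10] ++ [15]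

/-- its square -/
def tw : List ℕ := [10, 12, 11, 0, 7, 3]

/-- a transversal -/
def ys : List (List ℕ) := [[], [9, 0, 6, 5], [10, 12, 5, 10, 11], [4, 12, 8, 1, 6]]

theorem chkG : (eqF (gw ++ gw) tw && eqF (gw ++ tw) (tw ++ gw) && eqB (tw ++ tw ++ tw ++ tw) [] && !eqB (tw ++ tw) [] &&
    eqF ([12, 0, 2, 10, 2, 1] ++ gw) (tw ++ (gw ++ [12, 0, 2, 10, 2, 1])) &&
    eqF ([10, 12, 5, 10, 11] ++ gw) (tw ++ tw ++ (gw ++ [10, 12, 5, 10, 11])) &&
    Nat.beq (ev 13 tw 10) 88 && Nat.beq (ev 13 tw 88) 10) = true := by decide +kernel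

theorem chkY : allBelow (fun x => !Nat.beq (ev 13 tw (ev 13 tw x)) x || (Nat.beq (ev 13 tw x) x ||
    ys.any fun y => Nat.beq (ev 13 y 10) x && Nat.beq (ev 13 y 88) (ev 13 tw x))) 280 = true := by decide +kernel

theorem chkC : ys.all (fun y => allBelow (fun i => !Nat.beq (ev 13 (y ++ st48.getD i []) (ev 16 gw 0))
    (ev 16 gw (ev 13 (y ++ st48.getD i []) 0)) || (eqB (y ++ st48.getD i []) [] || (eqB (y ++ st48.getD i []) tw ||
    (eqB (y ++ st48.getD i []) (tw ++ tw) || eqB (y ++ st48.getD i []) (tw ++ tw ++ tw))))) 48) = true := by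
  decide +kernel

theorem rp_rel {q : MulAut M} {g a b : List ℕ} (h : Rp q (W g)) (ha : inn a = true) (hb : inn b = true)
    (e : eqF (a ++ g) (b ++ (g ++ a)) = true) : Wm a = Wm b * q (Wm a) := by
  have k := W_eq e
  rw [W_append, W_append, W_append] at k
  refine Subtype.ext ?_
  rw [Subgroup.coe_mul, h, coe_inn ha, coe_inn hb, ← mul_assoc, ← k, mul_inv_cancel_right]

/-- **the centraliser** -/
theorem cent_gw {q : MulAut M} (h : Rp q (W gw)) (s : M) (hs : q s = s) : s ∈ zpowers (Wm tw) := by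
  have k := chkG
  simp only [Bool.and_eq_true, Nat.beq_eq] at k
  obtain ⟨⟨⟨⟨⟨⟨⟨k1, -⟩, -⟩, -⟩, -⟩, -⟩, k2⟩, k3⟩ := k
  have e1 : W gw * s = s * W gw := by rw [← mul_inv_eq_iff_eq_mul, ← h, hs]
  have e2 : (Wm tw : Pm) * s = s * Wm tw := by
    rw [coe_inn rfl, ← W_eq k1, W_append, mul_assoc, e1, ← mul_assoc, e1, mul_assoc]
  have e3 : ∀ x, (Wm tw : Pm) ((s : Pm) x) = (s : Pm) ((Wm tw : Pm) x) := fun x => Equiv.congr_fun e2 x
  have e4 : (Wm tw : Pm) b1 = b2 := Fin.ext ((Wm_spec _ b1).trans k2)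
  have e5 : (Wm tw : Pm) b2 = b1 := Fin.ext ((Wm_spec _ b2).trans k3)
  have k4 := allBelow_spec _ _ chkY ((s : Pm) b1) ((s : Pm) b1).2
  rw [← Wm_spec, ← Wm_spec, e3, e4, e3, e5, Nat.beq_refl, Bool.not_true, Bool.false_or, Bool.or_eq_true,
    Nat.beq_eq] at k4
  obtain ⟨y, hy, k5⟩ := List.any_eq_true.1 (k4.resolve_left fun e =>
    absurd ((s : Pm).injective (Fin.ext e)) (by decide))
  rw [Bool.and_eq_true, Nat.beq_eq, Nat.beq_eq] at k5
  obtain ⟨i, hi, e6⟩ := stab48 (s := (Wm y)⁻¹ * s)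
    (Equiv.Perm.inv_eq_iff_eq.2 (Fin.ext ((Wm_spec y b1).trans k5.1).symm))
    (Equiv.Perm.inv_eq_iff_eq.2 (Fin.ext ((Wm_spec y b2).trans k5.2).symm))
  rw [inv_mul_eq_iff_eq_mul, ← Wm_append] at e6
  have k6 := allBelow_spec _ _ (List.all_eq_true.1 chkC y hy) i hi
  have e7 : ev 13 (y ++ st48.getD i []) (ev 16 gw 0) = ev 16 gw (ev 13 (y ++ st48.getD i []) 0) := by
    have a1 := W_spec gw b3
    have a2 := Wm_spec (y ++ st48.getD i []) b3
    have a3 := W_spec gw ((s : Pm) b3)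
    have a4 := Wm_spec (y ++ st48.getD i []) (W gw b3)
    rw [← e6] at a2 a4
    rw [a1] at a4
    rw [a2] at a3
    exact a4.symm.trans ((congrArg Fin.val (Equiv.congr_fun e1 b3)).symm.trans a3)
  rw [e7, Nat.beq_refl, Bool.not_true, Bool.false_or] at k6
  simp only [Bool.or_eq_true, eqB_iff] at k6
  rw [← e6, Wm_append (tw ++ tw), Wm_append] at k6
  rcases k6 with rfl | rfl | rfl | rfl
  · exact one_mem _
  · exact mem_zpowers _
  · exact mul_mem (mem_zpowers _) (mem_zpowers _)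
  · exact mul_mem (mul_mem (mem_zpowers _) (mem_zpowers _)) (mem_zpowers _)

/-- **type `2₃`** -/
theorem h23 : H2 15 4 := fun X _ _ φ h α q hq hα hz l m _ hm => by
  obtain ⟨s, hs⟩ := h.surj (Wm [3, 11, 4, 12, 10])
  have hq' : Rp _ (W gw) := rp_conj (s := [3, 11, 4, 12, 10]) (W_single 15 ▸ hq) rfl
  have k := chkG
  simp only [Bool.and_eq_true, Bool.not_eq_true'] at k
  obtain ⟨⟨⟨⟨⟨⟨⟨k1, k2⟩, k3⟩, k4⟩, k5⟩, k6⟩, -⟩, -⟩ := k
  rw [← fA_conj_mul s]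
  refine h.fA_four (q := MulAut.conj (Wm [3, 11, 4, 12, 10]) * q) (t := Wm tw) (fun x => ?_) (fun z hc => ?_)
    (fun s => Subtype.ext ?_) ?_ ?_ (rp_app hq' rfl rfl k2) (cent_gw hq') (rp_rel hq' rfl rfl k5)
    ((rp_rel hq' rfl rfl k6).trans (by rw [Wm_append])) hm
  · rw [MulAut.mul_apply, MulAut.mul_apply, MulAut.conj_apply, MulAut.conj_apply, map_mul, map_mul, map_inv, hs, hα]
  · rw [MulAut.mul_apply, hz z hc, MulAut.conj_apply, mem_center_iff.1 hc, mul_inv_cancel_right]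
  · rw [hq', hq', Subgroup.coe_mul, Subgroup.coe_mul, Subgroup.coe_inv, coe_inn rfl, ← W_eq k1, W_append]
    group
  · have e := Wm_eq k3
    rw [Wm_append, Wm_append, Wm_append] at e
    rw [pow_succ, pow_succ, pow_two]
    exact e
  · have e := Wm_ne k4
    rw [Wm_append] at e
    rw [pow_two]
    exact e

end Cfsg.Agent.MK.U43
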