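import Cfsg.Agent.MK.U43.Mod
import Cfsg.Agent.MK.A.Cov
import Cfsg.Agent.H87.OC.Lower

/-!
# MK, the triple covers of `U₄(3)`: the diagonal involution inverts the centre (helper11)
-/

set_option autoImplicit false
set_option maxRecDepth 100000
set_option maxHeartbeats 400000

namespace Cfsg.Agent.MK.U43

open Cfsg Subgroup Cfsg.Agent.MK.T Cfsg.Agent.TwoF.XL.U43 Cfsg.Agent.SporadicStructure.PermChain
open scoped commutatorElement

section abs

variable {X S : Type} [Group X] [Group S]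

theorem cls_comm {A : Set S} (h : ∀ a ∈ A, ∀ b ∈ A, a * b = b * a) : ∀ a ∈ closure A, ∀ b ∈ closure A, a * b = b * a := by
  have h1 : closure A ≤ centralizer A := (closure_le _).2 fun a ha => mem_centralizer_iff.2 fun b hb => h b hb a ha
  have h2 : closure A ≤ centralizer (closure A : Set S) :=
    (closure_le _).2 fun a ha => mem_centralizer_iff.2 fun b hb => (mem_centralizer_iff.1 (h1 hb) a ha).symm
  exact fun a ha b hb => (mem_centralizer_iff.1 (h2 ha) b hb).symm

theorem cls_three {A : Set S} (h : ∀ a ∈ A, ∀ b ∈ A, a * b = b * a) (h3 : ∀ a ∈ A, a ^ 3 = 1) :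
    IsPGroup 3 (closure A) := fun ⟨g, hg⟩ => ⟨1, Subtype.ext (by
  show g ^ 3 = 1
  induction hg using closure_induction with
  | mem x hx => exact h3 x hx
  | one => exact one_pow 3
  | mul x y hx hy h1 h2 => rw [Commute.mul_pow (cls_comm h x hx y hy), h1, h2, one_mul]
  | inv x _ h1 => rw [inv_pow, h1, inv_one])⟩

/-- some element squares `a` and centralises `b` -/
def Dm (a b : S) : Prop := a * b = b * a ∧ ∃ w, w * a = a * a * w ∧ w * b = b * w

variable {φ : X →* S} (h : Cv φ)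
include h

theorem Cv.cen {x y : X} (e : φ x = φ y) : ∃ z ∈ center X, x = z * y :=
  ⟨x * y⁻¹, by rw [← h.ker, MonoidHom.mem_ker, map_mul, map_inv, e, mul_inv_cancel], (inv_mul_cancel_right _ _).symm⟩

theorem Cv.comm_dm {x y : X} (hd : Dm (φ x) (φ y)) : x * y = y * x := by
  obtain ⟨h1, w, h2, h3⟩ := hd
  obtain ⟨w, rfl⟩ := h.surj w
  obtain ⟨c, hc, e⟩ := h.cen (x := x * y) (y := y * x) (by rw [map_mul, map_mul, h1])
  have k := A.det_eq φ h.ker hc e (α := MulAut.conj w) (i := 2) (j := 0) (k := 0) (l := 1)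
    (by rw [MulAut.conj_apply, mem_center_iff.1 hc, mul_inv_cancel_right])
    (by rw [MulAut.conj_apply, map_mul, map_mul, h2, map_inv, mul_inv_cancel_right, pow_zero, mul_one, pow_two])
    (by rw [MulAut.conj_apply, map_mul, map_mul, h3, map_inv, mul_inv_cancel_right, pow_zero, one_mul, pow_one])
  have k' : c = c * c := by simpa only [zero_mul, zero_add, pow_one, mul_one, pow_two] using k
  rw [e, left_eq_mul.1 k', one_mul]

theorem Cv.comm {x y : X} (hd : φ x = φ y ∨ Dm (φ x) (φ y) ∨ Dm (φ y) (φ x)) : x * y = y * x := by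
  rcases hd with e | e | e
  · obtain ⟨z, hz, rfl⟩ := h.cen e
    rw [← mul_assoc, mem_center_iff.1 hz]
  · exact h.comm_dm e
  · exact (h.comm_dm e).symm

theorem Cv.comap (A : Set S) : (closure A).comap φ = closure {x | x ∈ center X ∨ φ x ∈ A} := by
  refine le_antisymm ?_ ((closure_le _).2 fun x hx => hx.elim
    (fun e => show φ x ∈ closure A from (show φ x = 1 from h.ker.ge e) ▸ one_mem _) fun e => subset_closure e)
  rw [← comap_map_eq_self (f := φ) (H := Subgroup.closure {x | x ∈ center X ∨ φ x ∈ A})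
    (h.ker.le.trans fun x hx => Subgroup.subset_closure (Or.inl hx))]
  refine comap_mono ((closure_le _).2 fun a ha => ?_)
  obtain ⟨x, rfl⟩ := h.surj a
  exact mem_map_of_mem φ (subset_closure (Or.inr ha))

/-- **an automorphism which inverts `A` and centralises `B` moves the centre** -/
theorem Cv.not_fix [Finite X] {α : MulAut X} {q : MulAut S} (hq : ∀ x, φ (α x) = q (φ x)) {A B : Set S}
    (hA : ∀ a ∈ A, ∀ b ∈ A, a = b ∨ Dm a b ∨ Dm b a) (hB : ∀ a ∈ B, ∀ b ∈ B, a = b ∨ Dm a b ∨ Dm b a)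
    (h3 : ∀ a ∈ A ∪ B, a ^ 3 = 1) (hn : ∀ b ∈ B, ∀ a ∈ A, b * a * b⁻¹ ∈ closure A)
    (hi : IsPGroup 3 (closure (A ∪ B)) → ¬ 3 ∣ (closure (A ∪ B)).index) (qA : ∀ a ∈ A, q a = a⁻¹)
    (qB : ∀ b ∈ B, q b = b) : ¬ ∀ z ∈ center X, α z = z := fun hα => by
  have : Fact (Nat.Prime 3) := ⟨Nat.prime_three⟩
  have : Finite S := Finite.of_surjective φ h.surj
  have c0 : ∀ {A : Set S}, (∀ a ∈ A, ∀ b ∈ A, a = b ∨ Dm a b ∨ Dm b a) → ∀ a ∈ A, ∀ b ∈ A, a * b = b * a :=
    fun h a ha b hb => (h a ha b hb).elim (fun e => e ▸ rfl) fun e => e.elim And.left fun e => e.1.symm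
  have n1 : closure B ≤ normalizer (closure A : Set S) :=
    (closure_le _).2 fun b hb => mem_normalizer_fintype (HN.PC.conj_closure (hn b hb))
  have p3 : IsPGroup 3 (closure (A ∪ B)) := by
    rw [Subgroup.closure_union]
    exact (cls_three (c0 hA) fun a ha => h3 a (Or.inl ha)).to_sup_of_normal_left'
      (cls_three (c0 hB) fun a ha => h3 a (Or.inr ha)) n1
  have cA : ∀ a ∈ (closure A).comap φ, ∀ b ∈ (closure A).comap φ, a * b = b * a := by
    rw [h.comap]
    refine cls_comm ?_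
    rintro a (ha | ha) b hb
    · exact (mem_center_iff.1 ha b).symm
    · exact hb.elim (fun hb => mem_center_iff.1 hb a) fun hb => h.comm (hA _ ha _ hb)
  let N : Subgroup X :=
    { carrier := {r | r ∈ (closure A).comap φ ∧ α r = r⁻¹}
      one_mem' := ⟨one_mem _, by rw [map_one, inv_one]⟩
      mul_mem' := fun {a b} ha hb => ⟨mul_mem ha.1 hb.1, by
        rw [map_mul, ha.2, hb.2, cA a ha.1 b hb.1, mul_inv_rev]⟩
      inv_mem' := fun {a} ha => ⟨inv_mem ha.1, by rw [map_inv, ha.2]⟩ }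
  have cz : ∀ {z : X}, z ∈ center X → ∀ a b, z * a * b * (z * a)⁻¹ = a * b * a⁻¹ := fun hz a b => by
    rw [← mem_center_iff.1 hz, mul_assoc a, ← mem_center_iff.1 hz]
    group
  have nB : ∀ b, φ b ∈ B → ∀ r ∈ (closure A).comap φ, b * r * b⁻¹ ∈ (closure A).comap φ := fun b hb r hr => by
    rw [mem_comap, map_mul, map_mul, map_inv]
    exact (mem_normalizer_iff.1 (n1 (subset_closure hb)) _).1 hr
  have aB : ∀ b, φ b ∈ B → ∀ r, α (b * r * b⁻¹) = b * α r * b⁻¹ := fun b hb r => by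
    obtain ⟨z, hz, e⟩ := h.cen ((hq b).trans (qB _ hb))
    rw [map_mul, map_mul, map_inv, e, cz hz]
  have k1 : {x | x ∈ center X ∨ φ x ∈ A ∪ B} ⊆ normalizer (N : Set X) := by
    rintro g (hg | hg | hg) <;> refine mem_normalizer_fintype fun r hr => ?_
    · rwa [← mem_center_iff.1 hg, mul_inv_cancel_right]
    · rwa [cA g (subset_closure hg) r hr.1, mul_inv_cancel_right]
    · exact ⟨nB g hg r hr.1, by rw [aB g hg, hr.2, conj_inv]⟩
  have k2 : ∀ b a, φ b ∈ B → φ a ∈ A → ⁅b, a⁆ ∈ N := fun b a hb ha => by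
    have ha' : a ∈ (closure A).comap φ := subset_closure ha
    obtain ⟨z, hz, e⟩ := h.cen (((hq a).trans (qA _ ha)).trans (map_inv φ a).symm)
    refine ⟨mul_mem (nB b hb a ha') (inv_mem ha'), ?_⟩
    rw [commutatorElement_def, map_mul, aB b hb, map_inv, e, mul_inv_rev (_ * _ * _), inv_inv,
      cA a ha' _ (inv_mem (nB b hb a ha')), ← mem_center_iff.1 hz, mul_inv_rev, ← mul_assoc b, mul_assoc _ z,
      ← mem_center_iff.1 hz]
    group
  have k3 := H87.OC.commutator_closure_le k1 k1 (by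
    have k : ∀ {a b : X}, a * b = b * a → ⁅a, b⁆ ∈ N := fun e => by
      rw [commutatorElement_eq_one_iff_mul_comm.2 e]
      exact one_mem N
    rintro a (ha | ha | ha) b hb
    · exact k (mem_center_iff.1 ha b).symm
    · rcases hb with hb | hb | hb
      · exact k (mem_center_iff.1 hb a)
      · exact k (h.comm (hA _ ha _ hb))
      · rw [← commutatorElement_inv]
        exact inv_mem (k2 b a hb ha)
    · rcases hb with hb | hb | hb
      · exact k (mem_center_iff.1 hb a)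
      · exact k2 a b ha hb
      · exact k (h.comm (hB _ ha _ hb)))
  rw [← h.comap] at k3
  obtain ⟨z, hz⟩ : ∃ z : center X, z ≠ 1 :=
    have := Finite.one_lt_card_iff_nontrivial.1 (h.card ▸ (by norm_num : 1 < 3))
    exists_ne 1
  have k6 := OddHalf.LongSL.mem_commutator_of_center ((closure (A ∪ B)).comap φ)
    (p3.comap_of_ker_isPGroup φ (h.ker ▸ IsPGroup.of_card (n := 1) h.card))
    (by rw [index_comap_of_surjective _ h.surj]; exact hi p3)
    (z := z) (show φ z ∈ Subgroup.closure _ by rw [show φ z = 1 from h.ker.ge z.2]; exact one_mem _) z.2 (h.perf ▸ mem_top _)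
  rw [← map_subtype_commutator] at k3
  have k7 : α z = (z : X)⁻¹ := (k3 (mem_map_of_mem _ k6)).2
  have k8 := MK.A.cen_cube h.card z.2
  rw [hα z z.2, eq_inv_iff_mul_eq_one] at k7
  rw [pow_succ, pow_two, k7, one_mul] at k8
  exact hz (Subtype.ext k8)

end abs

/-- a word in the inner letters -/
def inn (l : List ℕ) : Bool := l.all fun s => Nat.blt s 13

theorem coe_inn {l : List ℕ} (h : inn l = true) : (Wm l : Pm) = W l :=
  coe_Wm fun s hs => Nat.blt_eq.mp (List.all_eq_true.1 h s hs)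

theorem rp_app {q : MulAut M} {g a b : List ℕ} (h : Rp q (W g)) (ha : inn a = true) (hb : inn b = true)
    (e : eqF (g ++ a) (b ++ g) = true) : q (Wm a) = Wm b := by
  have k := W_eq e
  rw [W_append, W_append] at k
  exact Subtype.ext (by rw [h, coe_inn ha, coe_inn hb, k, mul_inv_cancel_right])

theorem rp_conj {q : MulAut M} {g s : List ℕ} (h : Rp q (W g)) (hs : inn s = true) :
    Rp (MulAut.conj (Wm s) * q) (W (s ++ g)) := by
  rw [W_append, ← coe_inn hs]
  exact (Rp.conj _).mul h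

/-- products of powers -/
def pws : List (List ℕ) → ℕ → List ℕ
  | [], _ => []
  | w :: l, e => (bif Nat.beq (e % 3) 0 then [] else bif Nat.beq (e % 3) 1 then w else w ++ w) ++ pws l (e / 3)

theorem pws_realised : True := by have := @pws.eq_def; trivial

theorem pws_mem {H : Subgroup M} : ∀ (l : List (List ℕ)) (e : ℕ), (∀ w ∈ l, Wm w ∈ H) → Wm (pws l e) ∈ H
  | [], _, _ => one_mem H
  | w :: l, e, h => by
    have hw := h w List.mem_cons_self
    rw [pws, Wm_append]
    refine mul_mem ?_ (pws_mem l _ fun v hv => h v (List.mem_cons_of_mem _ hv))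
    cases Nat.beq (e % 3) 0
    · cases Nat.beq (e % 3) 1
      · exact (Wm_append w w).symm ▸ mul_mem hw hw
      · exact hw
    · exact one_mem H

/-- the check of `Dm` -/
def dmB (a b w : List ℕ) : Bool := eqB (a ++ b) (b ++ a) && (eqB (w ++ a) (a ++ a ++ w) && eqB (w ++ b) (b ++ w))

theorem dm_of {a b w : List ℕ} (h : dmB a b w = true) : Dm (Wm a) (Wm b) := by
  simp only [dmB, Bool.and_eq_true, eqB_iff, Wm_append] at h
  exact ⟨h.1, Wm w, h.2⟩

/-- a basis of `3⁴` -/
def rw4 : List (List ℕ) := [[5], [6, 5, 6], [2, 8, 2, 10, 2, 9], [12, 6, 2, 3, 2, 9]]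

/-- generators of a complement in a Sylow `3`-subgroup -/
def tw2 : List (List ℕ) := [[0, 2, 12, 5, 0, 3], [0, 4, 12, 5, 3, 9]]

/-- pairs of words -/
def prs (l ws : List (List ℕ)) : Bool :=
  l.all fun a => l.all fun b => eqB a b || (ws.any (fun w => dmB a b w) || ws.any fun w => dmB b a w)

theorem prs_spec {l ws : List (List ℕ)} (h : prs l ws = true) :
    ∀ a ∈ Wm '' {w | w ∈ l}, ∀ b ∈ Wm '' {w | w ∈ l}, a = b ∨ Dm a b ∨ Dm b a := by
  rintro _ ⟨a, ha, rfl⟩ _ ⟨b, hb, rfl⟩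
  have k := List.all_eq_true.1 (List.all_eq_true.1 h a ha) b hb
  simp only [Bool.or_eq_true, List.any_eq_true] at k
  exact k.imp Wm_eq fun k => k.imp (fun ⟨_, _, e⟩ => dm_of e) fun ⟨_, _, e⟩ => dm_of e

theorem chkA : prs rw4 [[11, 8, 12], [7, 2, 7]] = true := by decide +kernel
theorem chkB : prs tw2 [[7]] = true := by decide +kernel
theorem chk3 : (rw4 ++ tw2).all (fun a => eqB (a ++ a ++ a) [] && inn a) = true := by decide +kernel
theorem chkN : tw2.all (fun b => rw4.all fun a => [64, 66, 35, 80, 48, 32, 77].any fun e =>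
    eqB (b ++ a) (pws rw4 e ++ b)) = true := by decide +kernel
theorem chkqA : rw4.all (fun a => eqF ([11, 9, 6] ++ [13] ++ a) (a ++ a ++ ([11, 9, 6] ++ [13])) && inn (a ++ a)) = true := by
  decide +kernel
theorem chkqB : tw2.all (fun a => eqF ([11, 9, 6] ++ [13] ++ a) (a ++ ([11, 9, 6] ++ [13]))) = true := by decide +kernel
theorem chkD : dst (fun e => 280 * (280 * ev 13 (pws (rw4 ++ tw2) e) 10 + ev 13 (pws (rw4 ++ tw2) e) 88) +
    ev 13 (pws (rw4 ++ tw2) e) 0) 244 0 = true := by decide +kernel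

/-- **the lifts of the letter `13` move the centre** -/
theorem not_fix13 {X : Type} [Group X] [Finite X] {φ : X →* M} (h : Cv φ) {α : MulAut X} {q : MulAut M}
    (hq : Rp q (L 13)) (hα : ∀ x, φ (α x) = q (φ x)) : ¬ ∀ z ∈ center X, α z = z := fun hz => by
  obtain ⟨s, hs⟩ := h.surj (Wm [11, 9, 6])
  have hq' := rp_conj (s := [11, 9, 6]) (W_single 13 ▸ hq) rfl
  have k3 : ∀ a ∈ rw4 ++ tw2, Wm a ^ 3 = 1 ∧ inn a = true := fun a ha => by
    have k := List.all_eq_true.1 chk3 a ha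
    rw [Bool.and_eq_true, eqB_iff, Wm_append, Wm_append] at k
    exact ⟨by rw [pow_succ, pow_two]; exact k.1, k.2⟩
  refine h.not_fix (α := MulAut.conj s * α) (q := MulAut.conj (Wm [11, 9, 6]) * q) (fun x => ?_) (prs_spec chkA)
    (prs_spec chkB) ?_ ?_ (fun p3 h3 => ?_) ?_ ?_ fun z hc => ?_
  · rw [MulAut.mul_apply, MulAut.mul_apply, MulAut.conj_apply, MulAut.conj_apply, map_mul, map_mul, map_inv, hs, hα]
  · rintro _ (⟨a, ha, rfl⟩ | ⟨a, ha, rfl⟩)
    · exact (k3 a (List.mem_append_left _ ha)).1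
    · exact (k3 a (List.mem_append_right _ ha)).1
  · rintro _ ⟨b, hb, rfl⟩ _ ⟨a, ha, rfl⟩
    obtain ⟨e, -, k⟩ := List.any_eq_true.1 (List.all_eq_true.1 (List.all_eq_true.1 chkN b hb) a ha)
    rw [eqB_iff, Wm_append, Wm_append] at k
    rw [k, mul_inv_cancel_right]
    exact pws_mem _ _ fun w hw => subset_closure ⟨w, hw, rfl⟩
  · obtain ⟨n, hn⟩ := p3.exists_card_eq
    have k1 : 244 ≤ 3 ^ n := by
      rw [← hn, ← Nat.card_fin 244]
      refine Nat.card_le_card_of_injective (fun e : Fin 244 => ⟨Wm (pws (rw4 ++ tw2) e), pws_mem _ _ fun w hw =>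
        subset_closure ((List.mem_append.1 hw).imp (fun k => ⟨w, k, rfl⟩) fun k => ⟨w, k, rfl⟩)⟩) fun e f k => ?_
      have k2 := eqB_iff.2 (congrArg Subtype.val k)
      simp only [eqB, Bool.and_eq_true, Nat.beq_eq] at k2
      exact Fin.ext ((dst_spec _ _ _ chkD).2 e e.2 f f.2 (by rw [k2.1, k2.2.1, k2.2.2]))
    have k2 : 3 ^ 5 < 3 ^ n := lt_of_lt_of_le (by norm_num) k1
    have k4 := mul_dvd_mul h3 (pow_dvd_pow 3 ((Nat.pow_lt_pow_iff_right (by norm_num)).1 k2) : 3 ^ 6 ∣ 3 ^ n)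
    rw [← hn, index_mul_card, card_M] at k4
    norm_num at k4
  · rintro _ ⟨a, ha, rfl⟩
    have k := List.all_eq_true.1 chkqA a ha
    rw [Bool.and_eq_true] at k
    have k4 := k3 a (List.mem_append_left _ ha)
    rw [rp_app hq' k4.2 k.2 k.1, Wm_append, eq_inv_iff_mul_eq_one, ← k4.1, pow_succ, pow_two]
  · rintro _ ⟨a, ha, rfl⟩
    have k4 := (k3 a (List.mem_append_right _ ha)).2
    exact rp_app hq' k4 k4 (List.all_eq_true.1 chkqB a ha)
  · rw [MulAut.mul_apply, hz z hc, MulAut.conj_apply, mem_center_iff.1 hc, mul_inv_cancel_right]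

end Cfsg.Agent.MK.U43
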