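import Cfsg.Agent.MK.U43.Defs
import Cfsg.Agent.MK.S.Pc
import Cfsg.Agent.MK.S4.Gen
import Cfsg.Agent.QTNorm.UFourThree
import Cfsg.Agent.CTwoTab.Card

/-!
# MK, `U₄(3)`: the monomial Sylow `2`-subgroup and its linear characters (helper47)
-/

set_option autoImplicit false
set_option maxRecDepth 100000
set_option maxHeartbeats 400000

namespace Cfsg.Agent.MK.U43

open Cfsg Subgroup Matrix Cfsg.Agent.MK.T Cfsg.Agent.MK.S.Pc Cfsg.Agent.MK.S4 Cfsg.Agent.QTNorm
open Cfsg.Agent.ClassicalGeometry Cfsg.Agent.ClassicalGeometry.PSUAutCount Cfsg.Agent.ClassicalGeometry.UnitAutBasic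
open Cfsg.Agent.LieClassical.HermSiegel Cfsg.Agent.LieClassical.HermBasic

namespace LocP

/-- the number depends only on the coset of the automorphism -/
theorem fN_indep {X : Type} [Group X] [Finite X] (hS : SelfN X) (Q P : Sylow 2 X) {α β : MulAut X} {s : X}
    (h : ∀ x, α x = s * β x * s⁻¹) (hα : ∀ x, α x ∈ (Q : Subgroup X) ↔ x ∈ (Q : Subgroup X))
    (hβ : ∀ x, β x ∈ (P : Subgroup X) ↔ x ∈ (P : Subgroup X)) : fN (Q : Subgroup X) α = fN (P : Subgroup X) β := by
  have := two_prime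
  obtain ⟨g, rfl⟩ := MulAction.exists_smul_eq X P Q
  have h1 : ∀ x, g * x * g⁻¹ ∈ ((g • P : Sylow 2 X) : Subgroup X) ↔ x ∈ (P : Subgroup X) := fun x => by
    rw [Sylow.coe_subgroup_smul]
    exact smul_mem_pointwise_smul_iff (a := MulAut.conj g)
  have h2 : ∀ x, α (g * x * g⁻¹) = g * (MulAut.conj (g⁻¹ * s * β g) * β) x * g⁻¹ := fun x => by
    rw [h, MulAut.mul_apply, MulAut.conj_apply, map_mul, map_mul, map_inv]
    group
  have h3 : ∀ x, (MulAut.conj (g⁻¹ * s * β g) * β) x ∈ (P : Subgroup X) ↔ x ∈ (P : Subgroup X) := fun x => by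
    rw [← h1, ← h2, hα, h1]
  have h4 : g⁻¹ * s * β g ∈ (P : Subgroup X) := hS P (mem_normalizer_iff.2 fun y => by
    obtain ⟨x, rfl⟩ := β.surjective y
    rw [hβ, ← h3]
    rfl)
  let e : (P : Subgroup X) ≃* ((g • P : Sylow 2 X) : Subgroup X) :=
    { toFun := fun x => ⟨g * x * g⁻¹, (h1 _).2 x.2⟩
      invFun := fun x => ⟨g⁻¹ * x * g, (h1 _).1 (by simp [mul_assoc])⟩
      left_inv := fun x => Subtype.ext (by simp [mul_assoc])
      right_inv := fun x => Subtype.ext (by simp [mul_assoc])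
      map_mul' := fun x y => Subtype.ext (by simp [mul_assoc]) }
  rw [← fN_conj_mul h4, fN_eq_f0 (res_coe _ _ hα), fN_eq_f0 (res_coe _ _ h3)]
  exact (f0_congr e fun x => Subtype.ext (h2 x).symm).symm

/-- the data of a monomial matrix -/
abbrev Mn : Type := Fin 4 → Fin 4 × ℕ

/-- the product -/
def ml (f g : Mn) : Mn := fun i => ((g (f i).1).1, (f i).2 + (g (f i).1).2)

/-- the permutations of the letters -/
def sg (r : ℕ) : Equiv.Perm (Fin 4) := if r = 1 then Equiv.swap 0 1 else Equiv.swap 0 2 * Equiv.swap 1 3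

/-- the exponents of the letters -/
def ex (r : ℕ) (i : Fin 4) : ℕ := if r = 1 then (if i = 2 then 2 else 0) else if r = 2 then
  (if i = 0 then 1 else if i = 2 then 3 else 0) else 0

/-- the letters -/
def lt (r : ℕ) : Mn := fun i => (sg r i, ex r i)

/-- the words -/
def cw (w : List ℕ) : Mn := w.foldr (fun r f => ml (lt r) f) fun i => (i, 0)

/-- diagonal matrices -/
def dg (k : ℕ) : Mn := fun i => (i, if i = 0 then k else 0)

/-- the image under an automorphism -/
def im (k : ℕ) (f : Mn) : Mn := ml (ml (dg k) fun i => ((f i).1, 3 * (f i).2)) (dg (3 * k))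

/-- the code of the image in the simple group -/
def cd (f : Mn) : List ℕ := (List.finRange 4).map fun i => 4 * (f i).1.1 + ((f i).2 + 3 * (f 0).2) % 4

theorem cd_eq {f g : Mn} : cd f = cd g ↔
    ∀ i, (f i).1 = (g i).1 ∧ ((f i).2 + 3 * (f 0).2) % 4 = ((g i).2 + 3 * (g 0).2) % 4 := by
  rw [cd, cd, List.map_inj_left]
  refine ⟨fun h i => ?_, fun h i _ => by rw [(h i).1, (h i).2]⟩
  have h1 := h i (List.mem_finRange i)
  exact ⟨Fin.ext (by omega), by omega⟩

/-- the test for words -/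
def eqv (v w : List ℕ) : Bool := cd (cw v) == cd (cw w)

/-- the series -/
def cU : Cert where
  gw := [[0], [1], [2], [0, 1, 0, 1], [1, 2, 1, 2], [0, 2, 0, 2], [0, 1, 2, 1, 0, 1, 2, 1]]
  sq := []
  cm := [[[], [3], [5], [], [5, 6]], [[], [], [4], [], [], [6]], [[], [], [], [5, 6]], [[], [], [], [], [6]]]
  dv := [([], [], []), ([], [], []), ([], [], []), ([0], [1], []), ([1], [2], []), ([0], [2], []), ([1], [5], [])]

/-- the images of the letters modulo the commutator subgroup -/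
def w1 (k : ℕ) (i : Fin 3) : List (Fin 3) := [if k % 2 = 0 then i else i.rev]

/-- the parts in the commutator subgroup -/
def w2 (k : ℕ) (i : Fin 3) : List ℕ :=
  (([[[], [], [5]], [[], [3, 4, 5], []], [[5], [6], []], [[5], [3, 4, 5, 6], [5]]] : List (List (List ℕ))).getD k
    []).getD i []

/-- the normal forms -/
def nw (n : ℕ) : List ℕ := cU.ex ((List.range 7).filter n.testBit)

theorem chkU : ∀ i < 7, chk1 eqv 7 3 cU i = true := by decide +kernel

theorem chkN : ((List.range 128).map fun n => cd (cw (nw n))).Nodup := by decide +kernel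

theorem chkA : ∀ k < 4, ∀ i : Fin 3, inR 3 7 (w2 k i) = true ∧
    cd (im k (lt i)) = cd (cw ((w1 k i).map Fin.val ++ cU.ex (w2 k i))) := by decide +kernel

theorem chkS : (∀ i : Fin 3, eqv [i, i] [] = true) ∧ ∀ i < 7, ∀ r ∈ cU.gw.getD i [], r < 3 := by decide +kernel

theorem chkF : ∀ k < 4, (Finset.univ.filter fun s : Fin 3 → Bool => ∀ i, par s (w1 k i) = s i).card =
    if k % 2 = 0 then 8 else 4 := by decide +kernel

section gen

variable {G : Type} [Group G] [Finite G] {y : ℕ → G} (he : ∀ v w, eqv v w = true ↔ ev y v = ev y w)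
include he

theorem card_T : 2 ^ 7 ≤ Nat.card (V (cU.el y) 7 0) := by
  have h1 : ∀ n, ev y (nw n) ∈ V (cU.el y) 7 0 := fun n => by
    rw [nw, Cert.ev_ex]
    exact ev_mem fun i hi => mem_V (Nat.zero_le _) (List.mem_range.1 (List.mem_filter.1 hi).1)
  have h2 := Nat.card_le_card_of_injective (fun n : Fin 128 => (⟨_, h1 n⟩ : V (cU.el y) 7 0)) fun a b h =>
    Fin.ext (List.inj_on_of_nodup_map chkN (List.mem_range.2 a.2) (List.mem_range.2 b.2)
      (beq_iff_eq.1 ((he _ _).2 (congrArg Subtype.val h))))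
  rwa [Nat.card_eq_fintype_card, Fintype.card_fin] at h2

theorem pcU : PC (cU.el y) 7 3 := pc_of_chk (fun v w => (he v w).1) (by norm_num) chkU

theorem gn : Gn (V (cU.el y) 7 0) fun i : Fin 3 => y i where
  mem i := by
    have h1 : cU.el y i = y i := by fin_cases i <;> exact mul_one _
    exact h1 ▸ mem_V (Nat.zero_le _) (by omega)
  le := V_le fun i _ hi => ev_mem fun r hr => subset_closure ⟨⟨r, chkS.2 i hi r hr⟩, rfl⟩
  sq i := by
    have h1 := (he _ _).1 (chkS.1 i)
    rwa [ev_cons, ev_cons, ev_nil, mul_one] at h1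
  two := IsPGroup.of_card ((pcU he).card_eq (card_T he) (Nat.zero_le _))
  ge := ((pcU he).index (card_T he)).ge

theorem loc_gen (hS : SelfN G) (hc : Nat.card G = 3265920) : a2 G = 8 ∧ ∀ k < 4, ∀ β : MulAut G,
    (∀ i : Fin 3, β (y i) = ev y ((w1 k i).map Fin.val ++ cU.ex (w2 k i))) → ∀ (α : MulAut G) (s : G),
    (∀ x, α x = s * β x * s⁻¹) → ∀ Q : Sylow 2 G, (∀ x, α x ∈ (Q : Subgroup G) ↔ x ∈ (Q : Subgroup G)) →
      fN (Q : Subgroup G) α = if k % 2 = 0 then 8 else 4 := by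
  have := two_prime
  have h1 := (pcU he).card_eq (card_T he) (Nat.zero_le _)
  have h2 : ¬ 2 ∣ (V (cU.el y) 7 0).index := by
    have h3 := card_mul_index (V (cU.el y) 7 0)
    rw [h1, hc] at h3
    omega
  refine ⟨(ab_sylow ((gn he).two.toSylow h2)).symm.trans (gn he).ab_eq, fun k hk β hβ α s h3 Q h4 => ?_⟩
  have h5 : ∀ i : Fin 3, ∃ c ∈ ⁅V (cU.el y) 7 0, V (cU.el y) 7 0⁆,
      β (y i) = ((w1 k i).map fun i : Fin 3 => y i).prod * c := fun i =>
    ⟨_, (pcU he).comm_eq ▸ inR_mem (chkA k hk i).1, by rw [hβ, ev_append, Cert.ev_ex, ev, List.map_map]; rfl⟩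
  rw [fN_indep hS Q ((gn he).two.toSylow h2) h3 h4 ((gn he).stab h5), ← chkF k hk]
  exact (gn he).fN_eq h5

end gen

variable {F : Type} [Field F] {a : F}

/-- the matrix -/
def mo (a : F) (f : Mn) : Matrix (Fin 4) (Fin 4) F := Matrix.of fun i j => if (f i).1 = j then a ^ (f i).2 else 0

theorem mo_mul (f g : Mn) : mo a f * mo a g = mo a (ml f g) := by
  ext i j
  simp only [mul_apply, mo, of_apply, ml, ite_mul, zero_mul, Finset.sum_ite_eq, Finset.mem_univ, if_true]
  rw [mul_ite, mul_zero, pow_add]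
  rfl

theorem mo_one : mo a (fun i => (i, 0)) = 1 := by
  ext i j
  simp [mo, one_apply]

theorem pw (h : a ^ 4 = 1) {m n : ℕ} (e : m % 4 = n % 4) : a ^ m = a ^ n := by
  rw [pow_eq_pow_mod m h, e, ← pow_eq_pow_mod n h]

theorem pr_iff [Fintype F] (hF : Fintype.card F = 3 ^ 2) (h : IsPrimitiveRoot a 4) {g g' : SU 4 F 3} {f f' : Mn}
    (h1 : mat g = mo a f) (h2 : mat g' = mo a f') : cd f = cd f' ↔ pr 4 F 3 g = pr 4 F 3 g' := by
  rw [cd_eq]
  constructor
  · intro h3
    refine pr_eq_of_scalar (c := a ^ ((f' 0).2 + 3 * (f 0).2)) fun x => ?_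
    rw [act_def, act_def, ← smul_mulVec, h1, h2]
    congr 1
    ext i j
    simp only [mo, of_apply, Matrix.smul_apply, smul_eq_mul, (h3 i).1, mul_ite, mul_zero, ← pow_add]
    rw [pw h.pow_eq_one (n := (f' 0).2 + 3 * (f 0).2 + (f i).2) (by have := (h3 i).2; omega)]
  · intro h3
    obtain ⟨c, -, h4⟩ := exists_scalar_of_pr_eq hF (by norm_num) h3
    have h5 : ∀ i, (f i).1 = (f' i).1 ∧ a ^ (f' i).2 = c * a ^ (f i).2 := fun i => by
      have h6 := congrFun (h4 (Pi.single (f' i).1 1)) i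
      rw [act_def, act_def, h1, h2, mulVec_single_one, mulVec_single_one] at h6
      simp only [mo, col_apply, of_apply, if_true, Pi.smul_apply, smul_eq_mul] at h6
      by_cases h7 : (f i).1 = (f' i).1
      · exact ⟨h7, by rwa [if_pos h7] at h6⟩
      · rw [if_neg h7, mul_zero] at h6
        exact absurd h6 (pow_ne_zero _ (h.ne_zero (by norm_num)))
    refine fun i => ⟨(h5 i).1, ?_⟩
    have h6 : a ^ ((f i).2 + (f' 0).2) = a ^ ((f' i).2 + (f 0).2) := by
      rw [pow_add, pow_add, (h5 i).2, (h5 0).2]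
      ring
    rw [pow_eq_pow_mod _ h.pow_eq_one, pow_eq_pow_mod (_ + (f 0).2) h.pow_eq_one] at h6
    have h7 := h.pow_inj (Nat.mod_lt _ (by norm_num)) (Nat.mod_lt _ (by norm_num)) h6
    omega

/-- an element of determinant one -/
def toSU (A : GU 4 F 3) (h : (gm A).det = 1) : SU 4 F 3 := ⟨⟨gm A, h⟩, herm_gm A⟩

theorem pw4 (h : a ^ 4 = 1) (n : ℕ) : (a ^ n) ^ (3 + 1) = 1 := by rw [← pow_mul, mul_comm, pow_mul, h, one_pow]

theorem exists_y (h : IsPrimitiveRoot a 4) : ∃ y : ℕ → SU 4 F 3, ∀ w, mat (ev y w) = mo a (cw w) := by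
  have h2 : a ^ 2 = -1 := (h.pow (by norm_num) (show 4 = 2 * 2 from rfl)).eq_neg_one_of_two_right
  have h1 : ∀ r, ∃ g : SU 4 F 3, mat g = mo a (lt r) := fun r => by
    refine ⟨toSU (GUBasic.guDiag 3 (fun i => a ^ ex r i) (fun i => pw4 h.pow_eq_one _) * GUBasic.guPerm 3 (sg r)) ?_, ?_⟩
    · change (diagonal (fun i => a ^ ex r i) * (sg r).permMatrix F).det = 1
      rw [det_mul, det_diagonal, det_permutation, Finset.prod_pow_eq_pow_sum, Fin.sum_univ_four]
      by_cases h3 : r = 1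
      · simp [sg, ex, h3, h2]
      · by_cases h4 : r = 2 <;> simp [sg, ex, h3, h4, h.pow_eq_one]
    · change diagonal (fun i => a ^ ex r i) * (sg r).permMatrix F = _
      ext i j
      simp [mo, lt, diagonal_mul, PEquiv.toMatrix_apply, eq_comm]
  choose y hy using h1
  refine ⟨y, fun w => ?_⟩
  induction w with
  | nil => exact mo_one.symm
  | cons r w ih => rw [ev_cons, mat_mul, hy, ih, mo_mul]; rfl

theorem tau_a [Fintype F] (hF : Fintype.card F = 3 ^ 2) {τ : F ≃+* F} (hτ : τ ≠ 1) (x : F) : τ x = x ^ 3 := by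
  have := Fact.mk Nat.prime_three
  have hc : Nat.card (F ≃+* F) = 2 := Lib.FieldAutCard.card_ringAut (p := 3) (by norm_num) hF
  have hne : conj hF ≠ 1 := fun h => by
    obtain ⟨x, hx⟩ := exists_not_fixed hF
    exact hx (by rw [← conj_apply hF, h]; rfl)
  obtain ⟨u, -, hu⟩ := (Nat.card_eq_two_iff' 1).1 hc
  rw [(hu _ hτ).trans (hu _ hne).symm, conj_apply]

end LocP

open LocP

/-- **the local side** -/
theorem loc : Loc := by
  intro F _ _ hF
  have hF' : Fintype.card F = 3 ^ 2 := hF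
  have hS : SelfN (PSU 4 F 3) := UFourThree.sn F hF
  obtain ⟨a, ha⟩ : ∃ a : F, a ^ 2 = -1 := by
    obtain ⟨a, ha⟩ : IsSquare (-1 : F) := by
      rw [FiniteField.isSquare_neg_one_iff, hF]
      norm_num
    exact ⟨a, by rw [pow_two, ← ha]⟩
  have h4 : a ^ 4 = 1 := by linear_combination (a ^ 2 - 1) * ha
  have hn : (-1 : F) ≠ 1 := fun h => by
    have h1 : ((9 : ℕ) : F) = 0 := hF ▸ FiniteField.cast_card_eq_zero F
    exact one_ne_zero (α := F) (by
      push_cast at h1
      linear_combination h1 + 4 * h)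
  have hp : IsPrimitiveRoot a 4 := by
    have := two_prime
    have h1 : orderOf a = 4 := orderOf_eq_prime_pow (p := 2) (n := 1) (by rw [pow_one, ha]; exact hn) h4
    exact h1 ▸ IsPrimitiveRoot.orderOf a
  obtain ⟨y, hy⟩ := exists_y hp
  have hv : ∀ w, ev (fun r => pr 4 F 3 (y r)) w = pr 4 F 3 (ev y w) := fun w => by
    rw [ev, ev, map_list_prod, List.map_map]
    rfl
  obtain ⟨h1, h2⟩ := loc_gen (y := fun r => pr 4 F 3 (y r)) (fun v w => by
    rw [eqv, beq_iff_eq, hv, hv, pr_iff hF' hp (hy v) (hy w)]) hS (CTwoTab.card_psu_four_three hF)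
  refine ⟨hS, h1, fun C τ hτ Q hQ => ?_⟩
  obtain ⟨k, hk, hd⟩ := hp.eq_pow_of_pow_eq_one (GUBasic.det_pow hF' (herm_gm C))
  let D : GU 4 F 3 := GUBasic.guDiag 3 (fun i => a ^ (dg k i).2) fun i => pw4 h4 _
  have hD : gm D = mo a (dg k) := by
    ext i j
    exact diagonal_apply _ i j
  have hD' : gm D⁻¹ = mo a (dg (3 * k)) := by
    have h3 : mo a (dg k) * mo a (dg (3 * k)) = 1 := by
      rw [mo_mul, ← mo_one (a := a)]
      ext i j
      simp only [mo, ml, dg, of_apply]
      rw [pw h4 (n := 0) (by by_cases h : i = 0 <;> simp only [h, if_true, if_false] <;> omega)]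
      rfl
    rw [← Matrix.mul_one (gm D⁻¹), ← h3, ← hD, ← Matrix.mul_assoc, gm_inv_mul, Matrix.one_mul]
  have h3 : (gm (C * D⁻¹)).det = 1 := by
    have h5 : (gm D).det = (gm C).det := by
      change (diagonal fun i => a ^ (dg k i).2).det = _
      rw [det_diagonal, Fin.prod_univ_four, ← hd]
      simp [dg]
    rw [gm_mul, det_mul, ← h5, ← det_mul, gm_mul_inv, det_one]
  have h5 := h2 k hk (toAut D τ) (fun i => ?_) (toAut C τ) (pr 4 F 3 (toSU _ h3)) (fun x => ?_) Q hQ
  · rw [h5, ← hd, ← pow_mul]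
    refine ⟨fun h6 => if_pos ?_, fun h6 => if_neg fun h7 => h6 ((pw h4 (n := 0) (by omega)).trans (pow_zero a))⟩
    have h7 := (hp.pow_eq_one_iff_dvd _).1 h6
    omega
  · rw [hv, toAut_pr, ← pr_iff hF' hp (f := im k (lt i)) ?_ (hy _)]
    · exact (chkA k hk i).2
    · have h6 : mat (y i) = mo a (lt i) := by
        have h7 := hy [i]
        rw [ev_cons, ev_nil, mul_one] at h7
        rw [h7, cw, List.foldr_cons, List.foldr_nil, ← mo_mul, mo_one, Matrix.mul_one]
      change gm D * (mat (y i)).map τ * gm D⁻¹ = _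
      rw [hD, hD', h6, im, ← mo_mul, ← mo_mul]
      congr 2
      ext b c
      simp only [mo, map_apply, of_apply]
      split_ifs
      · rw [tau_a hF' hτ, ← pow_mul, mul_comm]
      · exact map_zero τ
  · obtain ⟨g, rfl⟩ := pr_surjective x
    rw [toAut_pr, toAut_pr, ← map_inv, ← map_mul, ← map_mul, eq_comm, mul_inv_eq_iff_eq_mul.2 ?_]
    apply mat_injective
    rw [mat_mul, mat_mul]
    change gm (C * D⁻¹) * (gm D * (mat g).map τ * gm D⁻¹) = gm C * (mat g).map τ * gm C⁻¹ * gm (C * D⁻¹)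
    simp only [gm_mul, Matrix.mul_assoc]
    rw [← Matrix.mul_assoc (gm D⁻¹), ← Matrix.mul_assoc (gm C⁻¹), gm_inv_mul, gm_inv_mul, Matrix.one_mul, Matrix.one_mul]

end Cfsg.Agent.MK.U43
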